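import Cfsg.Agent.Fgs2.MaxClass
import Cfsg.Agent.Invol.Four
import Cfsg.Agent.Transfer.Tate
import Cfsg.Agent.Transfer.Frobenius

/-! Sylow two-subgroups of transitive groups of fixity two. -/

namespace CF.Xs
open Subgroup MulAction Cfsg

section two
variable {S : Type*} [Group S] [Finite S]

theorem dq_of_cent (hS : IsPGroup 2 S) {t s : S} (ht : orderOf t = 2) (hs : orderOf s = 2)
    (hne : s ≠ t) (hC : Nat.card (centralizer ({t} : Set S)) ≤ 4) :
    (∃ n : ℕ, Nonempty (S ≃* DihedralGroup n)) ∨ IsQuasiDihedral S := by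
  by_cases hc : IsMulCommutative S
  · rw [show centralizer ({t} : Set S) = ⊤ from
      eq_top_iff.2 fun g _ => mem_centralizer_singleton_iff.2 (hc.1.1 _ _), card_top] at hC
    have hn : ¬ IsCyclic S := fun h =>
      hne (CF.Invol.eq_of_invol_of_isCyclic (H := ⊤) inferInstance trivial trivial hs ht)
    obtain ⟨k, hk⟩ := IsPGroup.iff_card.1 hS
    have h4 : Nat.card S = 4 := by
      rcases k with _ | _ | k
      · exact absurd (isCyclic_of_card_dvd_prime (p := 2) (by rw [hk]; norm_num)) hn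
      · exact absurd (isCyclic_of_card_dvd_prime (p := 2) (by rw [hk]; norm_num)) hn
      · have : 0 < 2 ^ k := by positivity
        rw [pow_succ, pow_succ] at hk
        omega
    have : IsKleinFour S := ⟨h4, (not_isCyclic_iff_exponent_eq_prime Nat.prime_two h4).1 hn⟩
    exact Or.inl ⟨2, IsKleinFour.nonempty_mulEquiv⟩
  have h1 := CF.Fgs2.card_centralizer_quotient_le (commutator S) t
  rw [show centralizer ({(t : S ⧸ commutator S)} : Set (S ⧸ commutator S)) = ⊤ from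
    eq_top_iff.2 fun g _ => mem_centralizer_singleton_iff.2 (mul_comm (G := Abelianization S) _ _),
    card_top] at h1
  have h4 : (commutator S).index = 4 :=
    (h1.trans hC).antisymm (Nat.le_of_dvd (Nat.pos_of_ne_zero index_ne_zero_of_finite)
      (CF.Fgs2.sq_dvd_index_commutator hS fun _ => hc inferInstance))
  obtain ⟨n, a, c, hn, -, ha, hi, hca, d⟩ := CF.Fgs2.taussky hS h4 hc
  rcases d.nonempty_equiv (by omega) ha hi hca with e | ⟨⟨f⟩⟩ | e
  · exact Or.inl ⟨_, e.2.2⟩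
  · have := NeZero.mk (pow_ne_zero (n - 1) two_ne_zero)
    have u : ∀ x : S, orderOf x = 2 → f x ∈ zpowers (QuaternionGroup.a 1) := fun x hx => by
      rw [← f.orderOf_eq] at hx
      rcases h : f x with i | i
      · exact ⟨i.val, by simp only [zpow_natCast, QuaternionGroup.a_one_pow, ZMod.natCast_zmod_val]⟩
      · rw [h, QuaternionGroup.orderOf_xa] at hx; omega
    exact absurd (f.injective (CF.Invol.eq_of_invol_of_isCyclic inferInstance (u s hs) (u t ht)
      (by rwa [f.orderOf_eq]) (by rwa [f.orderOf_eq]))) hne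
  · exact Or.inr e.2

variable {Ω : Type*} [MulAction S Ω]

omit [Finite S] in
theorem mem_norm_stab (hf : ∀ g : S, g ≠ 1 → ∀ a b c : Ω, g • a = a → g • b = b → g • c = c →
      a = b ∨ a = c ∨ b = c) {γ : Ω} {x : S} (hx : x ∈ normalizer (stabilizer S γ : Set S))
    (hx' : x ∉ stabilizer S γ) {g t : S} (ht1 : t ≠ 1) (ht : t ∈ stabilizer S γ)
    (hg : g * t * g⁻¹ ∈ stabilizer S γ) : g ∈ stabilizer S γ ∨ x⁻¹ * g ∈ stabilizer S γ := by
  have h1 : (g * t * g⁻¹) • x • γ = x • γ := by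
    have := (mem_normalizer_iff.1 (inv_mem hx) _).1 hg
    rw [mem_stabilizer_iff, inv_inv, mul_smul, mul_smul, inv_smul_eq_iff] at this
    exact this
  have h2 : (g * t * g⁻¹) • g • γ = g • γ := by
    rw [mul_smul, inv_smul_smul, mul_smul, mem_stabilizer_iff.1 ht]
  rcases hf _ (by simpa using ht1) γ _ _ hg h1 h2 with h | h | h
  · exact absurd h.symm hx'
  · exact Or.inl h.symm
  · exact Or.inr (by rw [mem_stabilizer_iff, mul_smul, ← h, inv_smul_smul])

theorem stab_cases (hS : IsPGroup 2 S) (hf : ∀ g : S, g ≠ 1 → ∀ a b c : Ω, g • a = a → g • b = b →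
      g • c = c → a = b ∨ a = c ∨ b = c) {γ : Ω} (h1 : stabilizer S γ ≠ ⊥) (h2 : stabilizer S γ ≠ ⊤) :
    (stabilizer S γ).index = 2 ∨ (Nat.card (stabilizer S γ) = 2 ∧
      ((∃ n : ℕ, Nonempty (S ≃* DihedralGroup n)) ∨ IsQuasiDihedral S)) := by
  have := hS.isNilpotent
  set T := stabilizer S γ with hT
  obtain ⟨x, hx, hx'⟩ := SetLike.exists_of_lt (normalizerCondition_of_isNilpotent T h2.lt_top)
  obtain ⟨⟨t, ht⟩, ht1⟩ := ne_bot_iff_exists_ne_one.1 h1
  replace ht1 : t ≠ 1 := fun h => ht1 (Subtype.ext h)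
  set N := normalizer (T : Set S) with hN
  have hTN : T ≤ N := le_normalizer
  have hm : ∀ {g t : S}, t ≠ 1 → t ∈ T → g * t * g⁻¹ ∈ T → g ∈ N := fun h1 h2 h3 =>
    (mem_norm_stab hf hx hx' h1 h2 h3).elim (fun h => hTN h) fun h => by
      simpa using N.mul_mem hx (hTN h)
  have hi : T.relIndex N = 2 := by
    refine index_eq_two_iff'.2 ⟨⟨x, hx⟩⁻¹, fun g => ?_⟩
    have h3 := mem_norm_stab hf hx hx' ht1 ht ((mem_normalizer_iff.1 g.2 t).1 ht)
    refine h3.elim (fun h => Or.inr ⟨h, fun h' => hx' ?_⟩) fun h => Or.inl ⟨h, fun h' => hx' ?_⟩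
    · simpa using T.mul_mem h (T.inv_mem h')
    · simpa using T.mul_mem h' (T.inv_mem h)
  by_cases hN1 : N = ⊤
  · left; rwa [hN1, relIndex_top_right] at hi
  right
  obtain ⟨y, hy, hy'⟩ := SetLike.exists_of_lt (normalizerCondition_of_isNilpotent N
    (Ne.lt_top hN1))
  have hyT : ∀ u ∈ T, u ≠ 1 → y * u * y⁻¹ ∉ T := fun u hu hu1 h => hy' (hm hu1 hu h)
  have hyN : ∀ u ∈ T, y * u * y⁻¹ ∈ N := fun u hu => (mem_normalizer_iff.1 hy u).1 (hTN hu)
  have he : ∀ u ∈ T, u ≠ 1 → ∀ v ∈ T, v ≠ 1 → u * v = 1 := fun u hu hu1 v hv hv1 => by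
    by_contra h
    refine hyT _ (T.mul_mem hu hv) h ?_
    rw [← conj_mul]
    exact (mul_mem_iff_of_index_two hi (a := ⟨_, hyN u hu⟩) (b := ⟨_, hyN v hv⟩)).2
      (iff_of_false (hyT u hu hu1) (hyT v hv hv1))
  have ht2 : orderOf t = 2 := orderOf_eq_prime (by rw [sq, he t ht ht1 t ht ht1]) ht1
  have hc : Nat.card T = 2 := by
    rw [← ht2, ← Nat.card_zpowers]
    congr 2
    refine le_antisymm (fun u hu => ?_) (zpowers_le.2 ht)
    by_cases hu1 : u = 1
    · simp [hu1]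
    · rw [eq_inv_of_mul_eq_one_left (he u hu hu1 t ht ht1)]; simp
  refine ⟨hc, dq_of_cent hS ht2 (s := y * t * y⁻¹) ?_ (fun h => hyT t ht ht1 (h.symm ▸ ht)) ?_⟩
  · rw [← ht2]; exact (MulAut.conj y).orderOf_eq t
  · have h3 := (T.subgroupOf N).card_mul_index
    rw [Nat.card_congr (subgroupOfEquivOfLe hTN).toEquiv, hc, ← relIndex, hi] at h3
    exact (card_le_of_le fun g hg => hm ht1 ht (by
      rwa [mem_centralizer_singleton_iff.1 hg, mul_inv_cancel_right])).trans h3.ge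

end two

variable {G : Type*} [Group G] [Finite G] {Ω : Type*} [Finite Ω] [MulAction G Ω]

omit [Finite G] in
theorem three_of_card (hfix : ∀ g : G, g ≠ 1 → Nat.card (fixedBy Ω g) ≤ 2) (g : G) (hg : g ≠ 1)
    (a b c : Ω) (ha : g • a = a) (hb : g • b = b) (hc : g • c = c) : a = b ∨ a = c ∨ b = c := by
  by_contra h
  push Not at h
  have := (Set.two_lt_ncard (Set.toFinite (fixedBy Ω g))).2 ⟨a, ha, b, hb, c, hc, h⟩
  exact absurd (hfix g hg) (by rw [Nat.card_coe_set_eq]; omega)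

theorem exists_frob (hfix : ∀ g : G, g ≠ 1 → Nat.card (fixedBy Ω g) ≤ 2) (S : Sylow 2 G) {α : Ω}
    (h1 : stabilizer S α ≠ ⊥) (h2 : (stabilizer S α).index = 2)
    (h3 : ∀ g : S, (∃ ω : Ω, g • ω = ω) → g ∈ stabilizer S α) [FaithfulSMul G Ω]
    [IsPretransitive G Ω] :
    ∃ N : Subgroup G, N.Normal ∧ N.index = 2 ∧ ∃ H : Subgroup N, IsFrobeniusComplement H := by
  have hf := three_of_card hfix
  set T := (S : Subgroup G) ⊓ stabilizer G α with hT
  have hi : T.relIndex S = 2 := by rw [hT, inf_relIndex_left]; exact h2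
  have hconj : ∀ y ∈ S, ∀ g : G, g * y * g⁻¹ ∈ S → y ∈ T → g * y * g⁻¹ ∈ T := fun y _ g hg h =>
    ⟨hg, h3 ⟨_, hg⟩ ⟨g • α, by
      change (g * y * g⁻¹) • g • α = _
      rw [mul_smul, inv_smul_smul, mul_smul, mem_stabilizer_iff.1 h.2]⟩⟩
  have hfoc : (S : Subgroup G) ⊓ commutator G ≤ T := CF.Transfer.sylow_inf_commutator_le S
    fun y hy g hg => (mul_mem_iff_of_index_two hi (a := ⟨y, hy⟩⁻¹) (b := ⟨_, hg⟩)).2 (by
      rw [inv_mem_iff]
      exact ⟨hconj y hy g hg, fun h => by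
        simpa [mul_assoc, mem_subgroupOf] using
          hconj _ hg g⁻¹ (by simpa [mul_assoc] using hy) h⟩)
  obtain ⟨N₀, _, h4, h5, h6⟩ := CF.Transfer.exists_normal_inf_sylow_eq S
  set N := N₀ ⊔ T with hN
  have hNn : N.Normal := Normal.of_commutator_le _ (h4.trans le_sup_left)
  have hNS : N ⊓ S = T := le_antisymm (fun g hg => by
    obtain ⟨n, hn, t, ht, rfl⟩ := mem_sup_of_normal_left.1 hg.1
    refine T.mul_mem (hfoc ?_) ht
    rw [inf_comm, ← h5]
    exact ⟨hn, ((S : Subgroup G).mul_mem_cancel_right ht.1).1 hg.2⟩) (le_inf le_sup_right inf_le_left)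
  have hNi : N.index = 2 := by
    rw [← relIndex_top_right, ← top_le_iff.1 (h6.ge.trans (sup_le_sup_right (le_sup_left (b := T)) _)),
      relIndex_sup_left, ← inf_relIndex_right, hNS, hi]
  have hfixN : ∀ g : G, ∀ ω : Ω, g • ω = ω → g ∈ N := fun g ω hg => by
    obtain ⟨k, m, hm, hkm⟩ := Nat.exists_eq_two_pow_mul_odd (orderOf_pos g).ne'
    obtain ⟨Q, hQ⟩ := (show IsPGroup 2 (zpowers (g ^ m)) from IsPGroup.of_card_dvd_pow (n := k) (by
      rw [Nat.card_zpowers, orderOf_dvd_iff_pow_eq_one, ← pow_mul, mul_comm, ← hkm,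
        pow_orderOf_eq_one])).exists_le_sylow
    obtain ⟨c, rfl⟩ := exists_smul_eq G S Q
    obtain ⟨y, hy, e⟩ := hQ (mem_zpowers _)
    replace e : c * y * c⁻¹ = g ^ m := e
    have h7 : y ∈ T := ⟨hy, h3 ⟨y, hy⟩ ⟨c⁻¹ • ω, by
      change y • c⁻¹ • ω = _
      rw [eq_inv_smul_iff, ← mul_smul, ← mul_smul, e]
      exact (stabilizer G ω).pow_mem hg m⟩⟩
    have h8 : g ^ m ∈ N := e ▸ hNn.conj_mem _ (mem_sup_right h7) c
    obtain ⟨j, rfl⟩ := hm
    rw [pow_succ, pow_mul] at h8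
    exact (mul_mem_cancel_left (pow_mem (sq_mem_of_index_two hNi g) j)).1 h8
  obtain ⟨x, hx⟩ : ∃ x, x ∉ N := by
    by_contra h; push Not at h
    rw [(eq_top_iff' N).2 h, index_top] at hNi; omega
  obtain ⟨⟨t, ht⟩, ht1⟩ := ne_bot_iff_exists_ne_one.1 h1
  have hodd : ¬ 2 ∣ Nat.card (orbit N α) := by
    rw [Nat.card_coe_set_eq, ← index_stabilizer]
    intro h
    have h7 : 2 ∣ T.relIndex N := h.trans (index_dvd_of_le fun g hg => hg.2)
    have h8 := relIndex_mul_index (show T ≤ N from le_sup_right)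
    rw [← relIndex_mul_index (show T ≤ S from inf_le_left), hNi, hi, mul_comm] at h8
    exact S.not_dvd_index (Nat.eq_of_mul_eq_mul_left two_pos h8 ▸ h7)
  have hcard : Nat.card (orbit N (x • α)) = Nat.card (orbit N α) := by
    refine (Nat.card_congr (Equiv.subtypeEquiv (toPerm x) fun ω => ?_)).symm
    refine ⟨fun ⟨n, hn⟩ => ⟨⟨_, hNn.conj_mem _ n.2 x⟩, ?_⟩, fun ⟨n, hn⟩ => ⟨⟨_, hNn.conj_mem' _ n.2 x⟩, ?_⟩⟩
    · change (x * n * x⁻¹) • x • α = x • ω
      rw [mul_smul, inv_smul_smul, mul_smul, ← hn]; rfl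
    · change (x⁻¹ * n * x) • α = ω
      rw [mul_smul, mul_smul, inv_smul_eq_iff]; exact hn
  have hdisj : ∀ ω ∈ orbit N α, ω ∉ orbit N (x • α) := by
    rintro _ ⟨n, rfl⟩ ⟨m, hm⟩
    have := hfixN (n.1⁻¹ * m * x) α (by rw [mul_smul, mul_smul, inv_smul_eq_iff]; exact hm)
    exact hx ((mul_mem_cancel_left (N.mul_mem (N.inv_mem n.2) m.2)).1 this)
  refine ⟨N, hNn, hNi, stabilizer N α, fun h => ht1 (Subtype.ext (Subtype.ext ?_)), fun h => ?_,
    fun g hg => eq_bot_iff.2 fun u hu => by_contra fun hu1 => ?_⟩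
  · have h7 : (⟨t.1, hfixN _ α ht⟩ : N) ∈ stabilizer N α := ht
    rw [h, mem_bot] at h7
    exact (congrArg Subtype.val h7 :)
  · refine ht1 (Subtype.ext (Subtype.ext (eq_of_smul_eq_smul (α := Ω) fun ω => ?_)))
    obtain ⟨c, rfl⟩ := exists_smul_eq G α ω
    have : (⟨_, hNn.conj_mem' _ (hfixN _ α ht) c⟩ : N) ∈ stabilizer N α := h ▸ mem_top _
    rw [mem_stabilizer_iff] at this
    change (c⁻¹ * t * c) • α = α at this
    rw [mul_smul, mul_smul, inv_smul_eq_iff] at this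
    simpa using this
  · obtain ⟨p, hp, hpd⟩ := Nat.exists_prime_and_dvd (mt orderOf_eq_one_iff.1 hu1)
    have := Fact.mk hp
    set v := u ^ (orderOf u / p)
    have hv : orderOf v = p := orderOf_pow_orderOf_div (orderOf_pos u).ne' hpd
    have hv1 : v.1 ≠ 1 := fun h => hp.ne_one (by rw [← hv, show v = 1 from Subtype.ext h, orderOf_one])
    have hvα : v • α = α := (stabilizer N α).pow_mem hu.1 _
    have hvg : v • g • α = g • α := by
      refine (stabilizer N (g • α)).pow_mem ?_ _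
      obtain ⟨w, hw, rfl⟩ := hu.2
      change (g * w * g⁻¹) • g • α = _
      rw [mul_smul, inv_smul_smul, mul_smul, mem_stabilizer_iff.1 hw]
    have hP : IsPGroup p (zpowers v) := IsPGroup.of_card (n := 1) (by rw [Nat.card_zpowers, hv, pow_one])
    have h7 : p ∣ Nat.card (orbit N (x • α)) := by
      by_contra h
      obtain ⟨ω, hω⟩ := hP.nonempty_fixed_point_of_prime_not_dvd_card _ h
      rcases hf _ hv1 α (g • α) ω hvα hvg (congrArg Subtype.val (hω ⟨v, mem_zpowers v⟩)) with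
        h | h | h
      · exact hg h.symm
      · exact hdisj α (mem_orbit_self α) (by have := ω.2; rwa [← h] at this)
      · exact hdisj _ (mem_orbit α g) (by rw [h]; exact ω.2)
    rw [hcard] at h7
    have h8 := (Nat.modEq_zero_iff_dvd.1 ((hP.card_modEq_card_fixedPoints (orbit N α)).symm.trans
      (Nat.modEq_zero_iff_dvd.2 h7)))
    have h9 : Nat.card (fixedPoints (zpowers v) (orbit N α)) ≤ 2 :=
      (Nat.card_le_card_of_injective (fun ω : fixedPoints (zpowers v) (orbit N α) =>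
        (⟨ω.1.1, congrArg Subtype.val (ω.2 ⟨v, mem_zpowers v⟩)⟩ : fixedBy Ω v.1))
        fun a b h => Subtype.ext (Subtype.ext (congrArg Subtype.val h :))).trans (hfix _ hv1)
    have : Nonempty (fixedPoints (zpowers v) (orbit N α)) := ⟨⟨⟨α, mem_orbit_self α⟩,
      fun w => Subtype.ext (zpowers_le.2 (show v ∈ stabilizer N α from hvα) w.2)⟩⟩
    have h10 := Nat.le_of_dvd Nat.card_pos h8
    exact hodd ((le_antisymm (h10.trans h9) hp.two_le) ▸ h7)

theorem fixity_two [FaithfulSMul G Ω] [IsPretransitive G Ω]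
    (hfix : ∀ g : G, g ≠ 1 → Nat.card (fixedBy Ω g) ≤ 2) (α : Ω) (S : Sylow 2 G) :
    (S : Subgroup G) ⊓ stabilizer G α = ⊥ ∨
    (((∃ n : ℕ, Nonempty (↥(S : Subgroup G) ≃* DihedralGroup n)) ∨ IsQuasiDihedral ↥(S : Subgroup G)) ∧
       (Nat.card ↥((S : Subgroup G) ⊓ stabilizer G α) = 2 ∨
        ((S : Subgroup G) ⊓ stabilizer G α).relIndex (S : Subgroup G) = 2)) ∨
    (4 ≤ Nat.card (S : Subgroup G) ∧
       (∃ ω : Ω, Nat.card (orbit ↥(S : Subgroup G) ω) = 2 ∧
          ∀ ω' : Ω, ω' ∉ orbit ↥(S : Subgroup G) ω →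
            Nat.card (orbit ↥(S : Subgroup G) ω') = Nat.card (S : Subgroup G)) ∧
       ∃ N : Subgroup G, N.Normal ∧ (N.index = 2 ∨ N.index = Nat.card (S : Subgroup G)) ∧
        (∃ H : Subgroup ↥N, IsFrobeniusComplement H)) ∨
    (S : Subgroup G) ≤ stabilizer G α := by
  have hf : ∀ g : (S : Subgroup G), g ≠ 1 → ∀ a b c : Ω, g • a = a → g • b = b → g • c = c →
      a = b ∨ a = c ∨ b = c := fun g hg => three_of_card hfix g.1 fun h => hg (Subtype.ext h)
  have hmap : (stabilizer (S : Subgroup G) α).map (S : Subgroup G).subtype =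
      (S : Subgroup G) ⊓ stabilizer G α := (subgroupOf_map_subtype (stabilizer G α) _).trans (inf_comm _ _)
  by_cases h1 : stabilizer (S : Subgroup G) α = ⊥
  · left; rw [← hmap, h1, Subgroup.map_bot]
  by_cases h2 : stabilizer (S : Subgroup G) α = ⊤
  · exact Or.inr (Or.inr (Or.inr fun g hg => (h2 ▸ mem_top _ : (⟨g, hg⟩ : (S : Subgroup G)) ∈
      stabilizer (S : Subgroup G) α)))
  rcases stab_cases S.2 hf h1 h2 with h3 | ⟨h3, h4⟩
  swap
  · exact Or.inr (Or.inl ⟨h4, Or.inl (by rw [← hmap, card_subtype, h3])⟩)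
  have hi : ((S : Subgroup G) ⊓ stabilizer G α).relIndex S = 2 := by
    rw [inf_relIndex_left]; exact h3
  have h4 : 4 ≤ Nat.card (S : Subgroup G) := by
    have := (stabilizer (S : Subgroup G) α).card_mul_index
    have := (one_lt_card_iff_ne_bot _).2 h1
    rw [h3] at *
    omega
  have hn := normal_of_index_eq_two h3
  have horb : ∀ t ∈ stabilizer (S : Subgroup G) α, t ≠ 1 → ∀ ω, t • ω = ω →
      ω ∈ orbit (S : Subgroup G) α := fun t ht ht1 ω hω => by
    obtain ⟨x, -, hx⟩ := SetLike.exists_of_lt (Ne.lt_top h2)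
    rcases hf t ht1 α (x • α) ω ht (by
      have := hn.conj_mem' _ ht x
      rwa [mem_stabilizer_iff, mul_smul, mul_smul, inv_smul_eq_iff] at this) hω with h | h | h
    · exact absurd h.symm hx
    · exact h ▸ mem_orbit_self α
    · exact h ▸ mem_orbit α x
  have horb' : ∀ ω ∈ orbit (S : Subgroup G) α, ∀ g : (S : Subgroup G), g • ω = ω →
      g ∈ stabilizer (S : Subgroup G) α := by
    rintro _ ⟨x, rfl⟩ g hg
    have : x⁻¹ * g * x ∈ stabilizer (S : Subgroup G) α := by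
      rw [mem_stabilizer_iff, mul_smul, mul_smul, inv_smul_eq_iff]; exact hg
    simpa [mul_assoc] using hn.conj_mem _ this x
  by_cases h5 : ∀ g : (S : Subgroup G), (∃ ω : Ω, g • ω = ω) → g ∈ stabilizer (S : Subgroup G) α
  · obtain ⟨N, h6, h7, h8⟩ := exists_frob hfix S h1 h3 h5
    refine Or.inr (Or.inr (Or.inl ⟨h4, ⟨α, by rw [Nat.card_coe_set_eq, ← index_stabilizer, h3],
      fun ω hω => ?_⟩, N, h6, Or.inl h7, h8⟩))
    rw [Nat.card_coe_set_eq, ← index_stabilizer, ← index_bot]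
    congr 1
    exact eq_bot_iff.2 fun g hg => by_contra fun h => hω (horb g (h5 g ⟨ω, hg⟩) h ω hg)
  push Not at h5
  obtain ⟨g, ⟨γ, hγ⟩, hg⟩ := h5
  have hγ' : γ ∉ orbit (S : Subgroup G) α := fun h => hg (horb' γ h g hγ)
  have hg1 : g ≠ 1 := fun h => hg (h ▸ one_mem _)
  obtain ⟨⟨t, ht⟩, ht1⟩ := ne_bot_iff_exists_ne_one.1 h1
  replace ht1 : t ≠ 1 := fun h => ht1 (Subtype.ext h)
  refine Or.inr (Or.inl ⟨?_, Or.inr hi⟩)
  rcases stab_cases S.2 hf (γ := γ) (fun h => hg1 (mem_bot.1 (h ▸ hγ)))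
    (fun h => hγ' (horb t ht ht1 γ (h ▸ mem_top t : t ∈ stabilizer _ γ))) with h6 | ⟨-, h6⟩
  swap
  · exact h6
  have h7 : ∀ u, u ∈ stabilizer (S : Subgroup G) α → u ∈ stabilizer (S : Subgroup G) γ → u = 1 :=
    fun u h1 h2 => by_contra fun h => hγ' (horb u h1 h γ h2)
  have h8 : ∀ u : (S : Subgroup G), u ≠ 1 → orderOf u = 2 := fun u hu => orderOf_eq_prime
    (h7 _ (sq_mem_of_index_two h3 u) (sq_mem_of_index_two h6 u)) hu
  refine dq_of_cent S.2 (h8 t ht1) (h8 g hg1) (fun h => hg (h ▸ ht)) ?_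
  refine (card_le_card_group _).trans ?_
  rw [← index_bot, ← (eq_bot_iff.2 fun u hu => h7 u hu.1 hu.2 :
    stabilizer (S : Subgroup G) α ⊓ stabilizer (S : Subgroup G) γ = ⊥)]
  exact index_inf_le.trans (by rw [h3, h6])

end CF.Xs
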