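import Cfsg.Agent.Pgp.D
import Cfsg.Agent.Coprime.Misc
import Cfsg.Agent.Coprime.Action
import Cfsg.Agent.Sig.SftD
import Cfsg.Agent.Fgs1.Extra
import Cfsg.Agent.Solv.Symplectic

/-!
# Non-cyclic abelian groups of odd order acting on 2-groups with small fixed points
-/

namespace CF.Xs

open Subgroup CF.BG CF.BG2 CF.Pgp CF.Invol
open scoped commutatorElement

variable {G : Type*} [Group G] [Finite G] {p r : ℕ} {E P Q V W X Z : Subgroup G} {i j e f : G}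

theorem odd_of_pi (h : PiElt {2}ᶜ e) : Odd (orderOf e) := by
  rw [← Nat.card_zpowers]; exact Sig.odd_iff_pi.2 (piGrp_zpowers.2 h)

theorem q8_cent (q : IsQ8 Q i j) (o : PiGrp {2}ᶜ E) (n : E ≤ 𝐍 Q) (nc : ¬ Q ≤ 𝐂 E) :
    ♯(Q ⊓ 𝐂 E) = 2 := by
  have k : PiGrp {2} Q := piGrp_of_isPGroup Nat.prime_two q.isPGroup
  have : Q ⊓ 𝐂 E = zpowers (i * i) := by
    refine le_antisymm (fun x hx => ?_) (zpowers_le.2 ⟨Q.mul_mem q.left_mem q.left_mem, ?_⟩)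
    · rcases q.mul_self_cases hx.1 with h | h | h
      · exact h ▸ one_mem _
      · exact h ▸ mem_zpowers _
      · obtain ⟨e⟩ := q.nonempty_equiv
        obtain ⟨y, q'⟩ := exists_isQ8_of_mem e hx.1 (h ▸ q.sq_ne)
        refine (nc (cent_symm (k.nil.cent_of_cent_cent n (o.coprime' k) (C := zpowers x)
          (zpowers_le.2 hx.1) (zpowers_le.2 hx.2) fun g hg => ?_))).elim
        exact zpowers_le.2 hx.2 (q'.mem_zpowers_left hg.1 (mem_cent1.1 (cent_zpowers x ▸ hg.2)))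
    · refine mem_cent.2 fun y hy => ?_
      have h1 := q.eq_sq_of_invol (conj_mem_of_norm (n hy) (Q.mul_mem q.left_mem q.left_mem))
        (by rw [BG.orderOf_conj', q.orderOf_sq])
      exact mul_inv_eq_iff_eq_mul.1 h1
  rw [this, Nat.card_zpowers, q.orderOf_sq]

theorem q8_idx (q : IsQ8 Q i j) (o : PiGrp {2}ᶜ E) (n : E ≤ 𝐍 Q) (nc : ¬ Q ≤ 𝐂 E) :
    (𝐂 Q).relIndex E = 3 := by
  have k : PiGrp {2} Q := piGrp_of_isPGroup Nat.prime_two q.isPGroup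
  have h1 : (Q ⊔ 𝐂 Q).relIndex E ∣ 6 :=
    (relIndex_dvd_of_norm n (norm_sup le_rfl (norm_le_norm_cent Q))).trans q.relIndex_dvd_six
  have h2 : (Q ⊔ 𝐂 Q) ⊓ E = 𝐂 Q ⊓ E := by
    refine le_antisymm (fun y hy => ⟨?_, hy.2⟩) (inf_le_inf_right _ le_sup_right)
    refine (o.elt hy.2).mem_of_relIndex hy.1 (sup_le (norm_cent (le_norm_self Q)) (le_norm_self _)) ?_
    rw [relIndex_sup_norm (Or.inl (norm_cent (le_norm_self Q)))]
    exact (k.relIndex _).compl_compl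
  rw [← inf_relIndex_right, h2, inf_relIndex_right] at h1
  have h3 : ¬ 2 ∣ (𝐂 Q).relIndex E := (o.relIndex _).not_dvd' Nat.prime_two rfl
  have h4 : (𝐂 Q).relIndex E ≠ 1 := fun h => nc (cent_symm (relIndex_eq_one.1 h))
  have := Nat.le_of_dvd (by norm_num) h1
  generalize (𝐂 Q).relIndex E = m at *
  interval_cases m <;> omega

/-- the hypothesis -/
structure OneInv (p : ℕ) (W E : Subgroup G) : Prop where
  h2 : p ≠ 2
  w : PiGrp {2} W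
  e : PiGrp {p} E
  a : Abel E
  nc : ¬ Cyc E
  n : E ≤ 𝐍 W
  f : ∀ e ∈ E, e ∈ 𝐂 W → e = 1
  r : ∀ e ∈ E, e ≠ 1 → pRank 2 (W ⊓ 𝐂₁ e) ≤ 1

namespace OneInv

variable (h : OneInv p W E)
include h

omit [Finite G] in
theorem o : PiGrp {2}ᶜ E := h.e.of_single_ne h.h2

omit [Finite G] in
theorem cop : (♯E).Coprime (♯W) := h.o.coprime' h.w

omit [Finite G] in
theorem norm (n : E ≤ 𝐍 X) (he : e ∈ E) : E ≤ 𝐍 (X ⊓ 𝐂₁ e) :=
  norm_inf n (norm_of_le (h.a.trans (cent_le_cent1 he)))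

theorem abel_le (l : X ≤ W) (n : E ≤ 𝐍 X) (a : Abel X) : X ≤ 𝐂 E := by
  refine h.a.le_of_cent1 h.nc n (coprime_mono h.cop le_rfl l) fun e he e1 => cent_symm fun y hy => ?_
  have k : PiGrp {2} (X ⊓ 𝐂₁ e) := (h.w.le l).inf_left
  exact mem_centralizer_of_isCyclic ((a.mono inf_le_left).cyc_of_pRank k
    ((pRank_mono 2 (inf_le_inf_right _ l)).trans (h.r e he e1))) k.isPGroup (h.norm n he hy)
    (odd_of_pi (h.o.elt hy))

theorem q8 (he : e ∈ E) (e1 : e ≠ 1) (nc : ¬ W ⊓ 𝐂₁ e ≤ 𝐂 E) : ∃ i j, IsQ8 (W ⊓ 𝐂₁ e) i j := by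
  obtain ⟨y, hy, ny⟩ := SetLike.not_le_iff_exists.1 fun c => nc (cent_symm c)
  exact Sig.q8_of_odd h.w.inf_left (h.r e he e1) (h.norm h.n he hy) (h.o.elt hy) ny

omit [Finite G] in
theorem not_cent : ¬ W ≤ 𝐂 E := fun c =>
  h.nc ((eq_bot_of_forall fun e he => h.f e he (cent_symm c he)) ▸ cyc_bot)

theorem exists_not_le (nc : ¬ W ≤ X) : ∃ e ∈ E, e ≠ 1 ∧ ¬ W ⊓ 𝐂₁ e ≤ X := by
  by_contra! c
  exact nc (h.a.le_of_cent1 h.nc h.n h.cop c)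

theorem card_cent : ♯(W ⊓ 𝐂 E) = 2 := by
  obtain ⟨e, he, e1, nc⟩ := h.exists_not_le h.not_cent
  obtain ⟨i, j, q⟩ := h.q8 he e1 nc
  rw [← q8_cent q h.o (h.norm h.n he) nc, inf_assoc, inf_eq_right.2 (cent_le_cent1 he)]

theorem center : 𝐙 W = W ⊓ 𝐂 E := by
  refine eq_of_prime_of_ne_bot (h.card_cent ▸ Nat.prime_two)
    (le_inf inf_le_left (h.abel_le inf_le_left (h.n.trans (norm_center W)) (center_abel W)))
    (h.w.center_ne_bot fun e => h.not_cent (e ▸ bot_le))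

theorem card_center : ♯(𝐙 W) = 2 := h.center ▸ h.card_cent

theorem Phi_le_center : 𝚽 W ≤ 𝐙 W := by
  have p2 := Nat.prime_two
  have lz : logn 2 (♯(𝐙 W)) = 1 := by rw [h.card_center, logn_self p2]
  have a : 𝚽 W ⊓ centMod W (𝐙 W) ≤ 𝐂 (𝚽 W) := fun x hx => by
    have h1 : (𝐂₁ x).relIndex W ≤ 2 ^ 1 := (relIndex_cent1_le (Z := 𝐙 W) fun q hq => by
      rw [← commutatorElement_inv]; exact inv_mem (hx.2.2 q hq)).trans (h.card_center.le)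
    have h2 := logn_relIndex_le p2 h1
    have h3 : W ⊓ 𝐂₁ x ⊴ W := ⟨inf_le_left, h.w.norm_of_logn inf_le_left h2⟩
    refine le_cent1_iff.1 (le_trans (h.w.Phi_le_iff.2 ⟨comm_le_of_logn h.w h3 (.refl W) inf_le_left h2,
      fun y hy => ?_⟩) inf_le_right)
    by_cases c : y ∈ W ⊓ 𝐂₁ x
    · exact pow_mem c 2
    · rw [sq]; exact mul_mem_of_logn h.w inf_le_left h2 hy hy c c
  have b : 𝚽 W ⊓ centMod W (𝐙 W) ≤ 𝐙 W := by
    rw [h.center] at a ⊢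
    have l : 𝚽 W ⊓ centMod W (W ⊓ 𝐂 E) ≤ W := inf_le_left.trans (Phi_le W)
    exact le_inf l (h.abel_le l (norm_inf (le_norm_Phi h.n) (norm_centMod h.n
      (norm_inf_cent h.n (le_norm_self E)))) (a.trans (cent_anti inf_le_left)))
  by_contra c
  have z : 𝐙 W ≤ 𝚽 W := le_of_prime_of_inf_ne_bot (h.card_center ▸ p2) (by
    rw [inf_comm]; exact h.w.nil.inf_center_ne_bot (Phi_normal W) fun e => c (e ▸ bot_le))
  have := (h.w.le (Phi_le W)).logn_lt (lt_of_le_not_ge z c)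
  obtain ⟨L, l1, l2, l3, l4⟩ := exists_normal_between h.w (center_normal W) (Phi_normal W) z (r := 2)
    (by omega) (by omega)
  have l5 : L ≤ 𝐙 W := le_trans (le_inf l2 (le_centMod.2 ⟨l3.le.trans (center_normal W).norm,
    comm_le_of_logn h.w (center_normal W) l3 l1 (by omega)⟩)) b
  have := logn_card_le (p := 2) l5
  omega

theorem extra : Cfsg.IsExtraspecial 2 W :=
  have : Fact (Nat.Prime 2) := ⟨Nat.prime_two⟩
  have k := h.w.Phi_le_iff.1 h.Phi_le_center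
  Solv.isExtraspecial_of_le h.w.isPGroup h.card_center rfl k.1 k.2 fun e =>
    h.not_cent (e.le.trans (h.center.le.trans inf_le_right))

theorem two : ∃ e ∈ E, e ≠ 1 ∧ ¬ W ⊓ 𝐂₁ e ≤ 𝐂 E ∧ ∃ f ∈ E, f ≠ 1 ∧ ¬ W ⊓ 𝐂₁ f ≤ 𝐂 E ∧
    ¬ W ⊓ 𝐂₁ f ≤ W ⊓ 𝐂₁ e := by
  obtain ⟨e, he, e1, nc⟩ := h.exists_not_le h.not_cent
  obtain ⟨f, hf, f1, nf⟩ := h.exists_not_le (X := W ⊓ 𝐂₁ e) fun c =>
    e1 (h.f e he (le_cent1_iff.1 (c.trans inf_le_right)))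
  exact ⟨e, he, e1, nc, f, hf, f1, fun c => nf (le_inf inf_le_left (c.trans (cent_le_cent1 he))), nf⟩

theorem card_E : ♯E = 9 ∧ p = 3 := by
  obtain ⟨e, he, e1, nc, f, hf, f1, nf, ne⟩ := h.two
  obtain ⟨i, j, q⟩ := h.q8 he e1 nc
  obtain ⟨i', j', q'⟩ := h.q8 hf f1 nf
  have a := q8_idx q h.o (h.norm h.n he) nc
  have b := q8_idx q' h.o (h.norm h.n hf) nf
  have c : (𝐂 (W ⊓ 𝐂₁ e) ⊓ 𝐂 (W ⊓ 𝐂₁ f)) ⊓ E = ⊥ := eq_bot_of_forall fun g hg => by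
    by_contra g1
    have l1 : W ⊓ 𝐂₁ e ≤ W ⊓ 𝐂₁ g := le_inf inf_le_left (le_cent1_iff.2 hg.1.1)
    have l2 : W ⊓ 𝐂₁ f ≤ W ⊓ 𝐂₁ g := le_inf inf_le_left (le_cent1_iff.2 hg.1.2)
    obtain ⟨i'', j'', q''⟩ := h.q8 hg.2 g1 fun c => nc (l1.trans c)
    exact ne (l2.trans (eq_of_card_eq l1 (q.card.trans q''.card.symm)).ge)
  have d := relIndex_inf_le (H := 𝐂 (W ⊓ 𝐂₁ e)) (K := 𝐂 (W ⊓ 𝐂₁ f)) (L := E)
  rw [relIndex_of_inf_bot c, a, b] at d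
  have p3 : p = 3 := ((h.e.relIndex (𝐂 (W ⊓ 𝐂₁ e))) 3 Nat.prime_three (by rw [a])).symm
  subst p3
  have l : ¬ logn 3 (♯E) ≤ 1 := fun l => h.nc (h.e.cyc_of_logn l)
  refine ⟨le_antisymm d ?_, rfl⟩
  rw [h.e.card_eq]
  exact (Nat.pow_le_pow_right (by norm_num) (show 2 ≤ logn 3 (♯E) by omega) : 3 ^ 2 ≤ _)

theorem card_W : ♯W = 2 ^ 5 ∨ ♯W = 2 ^ 7 ∨ ♯W = 2 ^ 9 := by
  classical
  have : Fact (Nat.Prime 2) := ⟨Nat.prime_two⟩
  have : Fact (Nat.Prime 3) := ⟨Nat.prime_three⟩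
  obtain ⟨n, n1, hn⟩ := Fgs1.card_of_extraspecial h.extra
  obtain ⟨c9, rfl⟩ := h.card_E
  have l : 8 < ♯W := by
    obtain ⟨e, he, e1, nc, -⟩ := h.two
    obtain ⟨i, j, q⟩ := h.q8 he e1 nc
    refine q.card ▸ card_lt (lt_of_le_of_ne inf_le_left fun c => e1 ?_)
    exact h.f e he (le_cent1_iff.1 (c.ge.trans inf_le_right))
  have := Fintype.ofFinite E
  have k := Coprime.prod_card_inf_centralizer_elem (p := 3) (n := 1) E W
    ⟨h.a.comm, fun x hx => congrArg Subtype.val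
      (Fgs1.pow_eq_one_of_not_isCyclic (p := 3) c9 h.nc ⟨x, hx⟩)⟩ c9 h.n h.cop
  rw [h.card_cent, ← Finset.mul_prod_erase _ _ (Finset.mem_univ 1)] at k
  have b : ∏ a ∈ Finset.univ.erase (1 : E), ♯(W ⊓ 𝐂₁ (a : G)) ≤ 8 ^ 8 := by
    have : (Finset.univ.erase (1 : E)).card = 8 := by
      rw [Finset.card_erase_of_mem (Finset.mem_univ _), Finset.card_univ, ← Nat.card_eq_fintype_card, c9]
    rw [← this]
    refine Finset.prod_le_pow_card _ _ _ fun a ha => ?_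
    by_cases c : W ⊓ 𝐂₁ (a : G) ≤ 𝐂 E
    · exact (card_le (le_inf inf_le_left c)).trans (by rw [h.card_cent, this]; norm_num)
    · obtain ⟨i, j, q⟩ := h.q8 a.2 (fun e => (Finset.mem_erase.1 ha).1 (Subtype.ext e)) c
      rw [q.card, this]
  have e1 : W ⊓ 𝐂₁ ((1 : E) : G) = W := inf_eq_left.2 fun x _ => mem_cent1.2 (by simp)
  rw [e1] at k
  have w : ♯W ≤ 2 ^ 9 := by
    have := card_pos' W
    have k2 : ♯W * (♯W ^ 2 * 2 ^ 6) ≤ ♯W * 8 ^ 8 := by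
      refine le_trans (le_of_eq ?_) (Nat.mul_le_mul_left (♯W) b)
      rw [k]; ring
    have k3 := Nat.le_of_mul_le_mul_left k2 this
    by_contra! c
    nlinarith
  rw [hn] at w l ⊢
  have := (Nat.pow_le_pow_iff_right (by norm_num)).1 w
  have : 3 < 1 + 2 * n := (Nat.pow_lt_pow_iff_right (by norm_num : 1 < 2)).1 l
  have : n = 2 ∨ n = 3 ∨ n = 4 := by omega
  rcases this with rfl | rfl | rfl <;> simp

end OneInv

end CF.Xs
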