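import Cfsg.Agent.Solv.Frattini

/-! Two-elements of symmetric groups lying in a unique Sylow two-subgroup. -/

namespace CF.Xs
open Equiv MulAction Finset
open scoped Pointwise

variable {α : Type*} [Fintype α] [DecidableEq α]

theorem smul_eq_of_mem {g : Perm α} {B : Finset α} (h : ∀ b ∈ B, g b ∈ B) : g • B = B :=
  eq_of_subset_of_card_le (fun a ha => by
    obtain ⟨b, hb, rfl⟩ := mem_smul_finset.1 ha; exact h b hb) (card_smul_finset g B).ge

omit [Fintype α] in
theorem mem_of_smul_eq {g : Perm α} {B : Finset α} (h : g • B = B) {b : α} (hb : b ∈ B) :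
    g b ∈ B := h ▸ smul_mem_smul_finset hb

/-- The cycle of `x` through `a`. -/
noncomputable def cyc (x : Perm α) (a : α) : Finset α :=
  (range (period x a)).image fun i => (x ^ i) a

theorem period_pos (x : Perm α) (a : α) : 0 < period x a :=
  period_pos_of_orderOf_pos (orderOf_pos x) a

omit [Fintype α] in
theorem card_cyc (x : Perm α) (a : α) : (cyc x a).card = period x a := by
  rw [cyc, card_image_of_injOn, card_range]
  intro i hi j hj h
  refine Function.iterate_injOn_Iio_minimalPeriod (f := fun b => x • b) (x := a)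
    (mem_range.1 hi) (mem_range.1 hj) ?_
  simp only [smul_iterate_apply]
  exact h

omit [Fintype α] in
theorem cyc_subset {x : Perm α} {B : Finset α} (h : x • B = B) {a : α} (ha : a ∈ B) :
    cyc x a ⊆ B := by
  intro b hb
  obtain ⟨i, -, rfl⟩ := mem_image.1 hb
  exact mem_of_smul_eq ((stabilizer (Perm α) B).pow_mem h i) ha

omit [Fintype α] [DecidableEq α] in
theorem period_zpow_apply (x : Perm α) (a : α) (i : ℤ) : period x ((x ^ i) a) = period x a := by
  have h : ∀ n : ℕ, x ^ n • (x ^ i) a = (x ^ i) a ↔ x ^ n • a = a := fun n => by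
    rw [Perm.smul_def, Perm.smul_def, ← Perm.mul_apply, ← ((Commute.refl x).zpow_left i |>.pow_right n).eq,
      Perm.mul_apply, (x ^ i).injective.eq_iff]
  exact Nat.dvd_antisymm (pow_smul_eq_iff_period_dvd.1 ((h _).2 (pow_period_smul x a)))
    (pow_smul_eq_iff_period_dvd.1 ((h _).1 (pow_period_smul x _)))

omit [Fintype α] in
theorem period_of_mem_cyc {x : Perm α} {a b : α} (hb : b ∈ cyc x a) : period x b = period x a := by
  obtain ⟨i, -, rfl⟩ := mem_image.1 hb
  simpa using period_zpow_apply x a i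

theorem self_mem_cyc (x : Perm α) (a : α) : a ∈ cyc x a :=
  mem_image.2 ⟨0, mem_range.2 (period_pos x a), by simp⟩

/-- At most two fixed points and at most one cycle of each larger two-power length. -/
structure Good (x : Perm α) (S : Finset α) : Prop where
  two : ∀ a : α, ∃ k, period x a = 2 ^ k
  fix : (S.filter fun a => period x a = 1).card ≤ 2
  cy : ∀ k, (S.filter fun a => period x a = 2 ^ (k + 1)).card ≤ 2 ^ (k + 1)

omit [Fintype α] [DecidableEq α] in
theorem Good.mono {x : Perm α} {S T : Finset α} (h : Good x S) (hT : T ⊆ S) : Good x T :=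
  ⟨h.two, (card_le_card (filter_subset_filter _ hT)).trans h.fix,
    fun k => (card_le_card (filter_subset_filter _ hT)).trans (h.cy k)⟩

omit [Fintype α] in
theorem Good.low {x : Perm α} {S : Finset α} (h : Good x S) (k : ℕ) :
    (S.filter fun a => period x a < 2 ^ (k + 1)).card + 2 ≤
      (S.filter fun a => period x a = 1).card + 2 ^ (k + 1) := by
  induction k with
  | zero =>
    refine Nat.add_le_add_right (card_le_card fun a ha => ?_) 2
    obtain ⟨j, hj⟩ := h.two a
    rw [mem_filter] at ha ⊢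
    have : 0 < 2 ^ j := by positivity
    exact ⟨ha.1, by omega⟩
  | succ k ih =>
    have h1 : (S.filter fun a => period x a < 2 ^ (k + 1 + 1)) ⊆
        (S.filter fun a => period x a < 2 ^ (k + 1)) ∪ S.filter fun a => period x a = 2 ^ (k + 1) := by
      intro a ha
      obtain ⟨j, hj⟩ := h.two a
      simp only [mem_filter, mem_union] at ha ⊢
      rw [hj, Nat.pow_lt_pow_iff_right (by norm_num)] at ha
      rw [hj, Nat.pow_lt_pow_iff_right (by norm_num), Nat.pow_right_inj (by norm_num)]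
      have := ha.1
      rcases Nat.lt_succ_iff_lt_or_eq.1 ha.2 with h | h <;> tauto
    have h2 := (card_le_card h1).trans (card_union_le _ _)
    have := h.cy k
    have := pow_succ 2 (k + 1)
    omega

omit [Fintype α] in
theorem Good.cases {x : Perm α} {S B : Finset α} (h : Good x S) (hB : B ⊆ S) (hx : x • B = B)
    {k : ℕ} (hc : B.card = 2 ^ (k + 1)) :
    B = S.filter (fun a => period x a = 2 ^ (k + 1)) ∨
      (B = S.filter (fun a => period x a < 2 ^ (k + 1)) ∧ ∃ a ∈ S, x a = a) := by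
  by_cases h1 : ∃ a ∈ B, 2 ^ (k + 1) ≤ period x a
  · obtain ⟨a, ha, h1⟩ := h1
    have h2 : cyc x a = B := eq_of_subset_of_card_le (cyc_subset hx ha) (by rw [card_cyc]; omega)
    have h3 : period x a = 2 ^ (k + 1) := by rw [← card_cyc, h2, hc]
    refine Or.inl (eq_of_subset_of_card_le (fun b hb => mem_filter.2 ⟨hB hb, ?_⟩)
      (hc ▸ h.cy k))
    rw [← h2] at hb
    rw [period_of_mem_cyc hb, h3]
  · push Not at h1
    have h2 : B ⊆ S.filter (fun a => period x a < 2 ^ (k + 1)) :=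
      fun b hb => mem_filter.2 ⟨hB hb, h1 b hb⟩
    have h3 := h.low k
    have h4 := h.fix
    have h5 := card_le_card h2
    refine Or.inr ⟨eq_of_subset_of_card_le h2 (by omega), ?_⟩
    obtain ⟨a, ha⟩ : (S.filter fun a => period x a = 1).Nonempty := card_pos.1 (by omega)
    exact ⟨a, (mem_filter.1 ha).1, period_eq_one_iff.1 (mem_filter.1 ha).2⟩

omit [Fintype α] in
theorem Good.three {x : Perm α} {S B₁ B₂ B₃ : Finset α} (h : Good x S) (s₁ : B₁ ⊆ S)
    (s₂ : B₂ ⊆ S) (s₃ : B₃ ⊆ S) (x₁ : x • B₁ = B₁) (x₂ : x • B₂ = B₂) (x₃ : x • B₃ = B₃) {k : ℕ}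
    (c₁ : B₁.card = 2 ^ k) (c₂ : B₂.card = 2 ^ k) (c₃ : B₃.card = 2 ^ k) :
    B₁ = B₂ ∨ B₁ = B₃ ∨ B₂ = B₃ := by
  rcases k with _ | k
  · obtain ⟨a, rfl⟩ := card_eq_one.1 c₁
    obtain ⟨b, rfl⟩ := card_eq_one.1 c₂
    obtain ⟨c, rfl⟩ := card_eq_one.1 c₃
    have hf : ∀ a, {a} ⊆ S → x • ({a} : Finset α) = {a} → a ∈ S.filter fun a => period x a = 1 :=
      fun a h1 h2 => mem_filter.2 ⟨h1 (mem_singleton_self a), period_eq_one_iff.2 (by simpa using h2)⟩
    by_contra hc
    simp only [singleton_inj, not_or] at hc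
    have := two_lt_card.2 ⟨a, hf a s₁ x₁, b, hf b s₂ x₂, c, hf c s₃ x₃, hc.1, hc.2.1, hc.2.2⟩
    have := h.fix
    omega
  · rcases h.cases s₁ x₁ c₁ with h1 | ⟨h1, -⟩ <;> rcases h.cases s₂ x₂ c₂ with h2 | ⟨h2, -⟩ <;>
      rcases h.cases s₃ x₃ c₃ with h3 | ⟨h3, -⟩ <;>
      first
      | exact Or.inl (h1.trans h2.symm)
      | exact Or.inr (Or.inl (h1.trans h3.symm))
      | exact Or.inr (Or.inr (h2.trans h3.symm))

omit [Fintype α] in
theorem smul_eq_of_sq {y : Perm α} (hy : Odd (orderOf y)) {B : Finset α} (h : y • y • B = B) :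
    y • B = B := by
  obtain ⟨k, hk⟩ := hy
  have h1 : y * y ∈ stabilizer (Perm α) B := by rw [mem_stabilizer_iff, mul_smul, h]
  have h2 := (stabilizer (Perm α) B).pow_mem h1 (k + 1)
  rwa [← sq, ← pow_mul, show 2 * (k + 1) = orderOf y + 1 by omega, pow_succ, pow_orderOf_eq_one,
    one_mul] at h2

omit [DecidableEq α] in
theorem two_of_mem {D : Subgroup (Perm α)} (hD : IsPGroup 2 D) {x : Perm α} (hx : x ∈ D) (a : α) :
    ∃ k, period x a = 2 ^ k := by
  obtain ⟨k, hk⟩ := hD ⟨x, hx⟩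
  have : period x a ∣ 2 ^ k :=
    pow_smul_eq_iff_period_dvd.1 (by rw [show x ^ 2 ^ k = 1 from congrArg Subtype.val hk, one_smul])
  obtain ⟨j, -, hj⟩ := (Nat.dvd_prime_pow Nat.prime_two).1 this
  exact ⟨j, hj⟩

theorem exists_half {D : Subgroup (Perm α)} (hD : IsPGroup 2 D) {S : Finset α} {a : α}
    (hS : ∀ b, b ∈ S ↔ ∃ d ∈ D, d a = b) (h1 : S.card ≠ 1) :
    ∃ B ⊆ S, a ∈ B ∧ 2 * B.card = S.card ∧ ∀ d ∈ D, d • B = B ∨ d • B = S \ B := by
  classical
  have hne : stabilizer D a ≠ ⊤ := by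
    intro h
    refine h1 (card_eq_one.2 ⟨a, eq_singleton_iff_unique_mem.2 ⟨(hS a).2 ⟨1, D.one_mem, rfl⟩, ?_⟩⟩)
    intro b hb
    obtain ⟨d, hd, rfl⟩ := (hS b).1 hb
    exact (h ▸ Subgroup.mem_top (⟨d, hd⟩ : D) : (⟨d, hd⟩ : D) ∈ stabilizer D a)
  obtain ⟨M, hM, hle⟩ := (eq_top_or_exists_le_coatom _).resolve_left hne
  have hi := CF.Solv.index_eq_of_isCoatom_of_isPGroup hD hM
  set B := S.filter fun b => ∃ m ∈ M, (m : D).1 a = b with hB
  have hmem : ∀ e : D, e.1 a ∈ B ↔ e ∈ M := fun e => by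
    rw [hB, mem_filter]
    refine ⟨fun ⟨_, m, hm, h⟩ => ?_, fun h => ⟨(hS _).2 ⟨e, e.2, rfl⟩, e, h, rfl⟩⟩
    have : m⁻¹ * e ∈ stabilizer D a := by
      change (m.1⁻¹ * e.1) a = a
      rw [Perm.mul_apply, ← h]; simp
    simpa using M.mul_mem hm (hle this)
  have hsub : B ⊆ S := filter_subset _ _
  have key : ∀ d : D, (d ∈ M → d.1 • B = B) ∧ (d ∉ M → d.1 • B = S \ B) := fun d => by
    refine ⟨fun hd => smul_eq_of_mem fun b hb => ?_, fun hd => ?_⟩
    · obtain ⟨e, he, rfl⟩ := (hS b).1 (hsub hb)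
      exact (hmem (d * ⟨e, he⟩)).2 (M.mul_mem hd ((hmem ⟨e, he⟩).1 hb))
    · ext b
      rw [← inv_smul_mem_iff, mem_sdiff]
      by_cases hb : b ∈ S
      · obtain ⟨e, he, rfl⟩ := (hS b).1 hb
        have h2 := hmem (d⁻¹ * ⟨e, he⟩)
        have h3 := hmem ⟨e, he⟩
        rw [Subgroup.mul_mem_iff_of_index_two hi, inv_mem_iff] at h2
        change d.1⁻¹ • e a ∈ B ↔ _ at h2
        simp only at h3
        tauto
      · refine ⟨fun h => absurd ?_ hb, fun h => absurd h.1 hb⟩
        obtain ⟨e, he, h⟩ := (hS _).1 (hsub h)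
        exact (hS b).2 ⟨d.1 * e, D.mul_mem d.2 he, by rw [Perm.mul_apply, h]; simp⟩
  obtain ⟨d, hd⟩ : ∃ d, d ∉ M := by
    by_contra hc; push Not at hc; exact hM.1 (eq_top_iff.2 fun d _ => hc d)
  refine ⟨B, hsub, (hmem 1).2 M.one_mem, ?_, fun d hd => ?_⟩
  · have h2 := card_smul_finset d.1 B
    rw [(key d).2 hd, card_sdiff_of_subset hsub] at h2
    have := card_le_card hsub
    omega
  · by_cases h : (⟨d, hd⟩ : D) ∈ M
    · exact Or.inl ((key _).1 h)
    · exact Or.inr ((key _).2 h)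

omit [Fintype α] [DecidableEq α] in
theorem period_sq {x : Perm α} {b : α} {k : ℕ} (h : period x b = 2 ^ (k + 1)) :
    period (x * x) b = 2 ^ k := by
  refine Nat.dvd_antisymm (pow_smul_eq_iff_period_dvd.1 ?_) ?_
  · rw [← sq, ← pow_mul, pow_smul_eq_iff_period_dvd, h, pow_succ']
  · have := pow_period_smul (x * x) b
    rw [← sq, ← pow_mul, pow_smul_eq_iff_period_dvd, h, pow_succ'] at this
    rw [← sq]
    exact Nat.dvd_of_mul_dvd_mul_left two_pos this

theorem fix_of_good {y : Perm α} (hy : Odd (orderOf y)) (n : ℕ) :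
    ∀ (S : Finset α) (D : Subgroup (Perm α)) (x : Perm α), S.card = n → IsPGroup 2 D → x ∈ D →
      y ∈ Subgroup.normalizer (D : Set (Perm α)) → (∀ d ∈ D, d • S = S) → y • S = S → Good x S →
      ∀ a ∈ S, y a = a := by
  classical
  induction n using Nat.strong_induction_on with
  | _ n ih =>
  intro S D x hn hD hx hN hS hyS hG a ha
  have hconj : ∀ d ∈ D, y⁻¹ * d * y ∈ D := fun d hd => by
    simpa using (Subgroup.mem_normalizer_iff.1 ((Subgroup.normalizer _).inv_mem hN) d).1 hd
  have hinv : ∀ B : Finset α, (∀ d ∈ D, d • B = B) → ∀ d ∈ D, d • y • B = y • B :=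
    fun B hB d hd => by
      conv_rhs => rw [← hB _ (hconj d hd)]
      simp [← mul_smul, ← mul_assoc]
  have hsub : ∀ B : Finset α, B ⊆ S → y • B ⊆ S := fun B hB => hyS ▸ smul_finset_subset_smul_finset hB
  set O := univ.filter fun b => ∃ d ∈ D, d a = b with hO
  have hOm : ∀ b, b ∈ O ↔ ∃ d ∈ D, d a = b := fun b => by simp [hO]
  have hOS : O ⊆ S := fun b hb => by
    obtain ⟨d, hd, rfl⟩ := (hOm b).1 hb; exact mem_of_smul_eq (hS d hd) ha
  have hOD : ∀ d ∈ D, d • O = O := fun d hd => smul_eq_of_mem fun b hb => by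
    obtain ⟨e, he, rfl⟩ := (hOm b).1 hb; exact (hOm _).2 ⟨d * e, D.mul_mem hd he, rfl⟩
  have haO : a ∈ O := (hOm a).2 ⟨1, D.one_mem, rfl⟩
  obtain ⟨k, hk⟩ : ∃ k, O.card = 2 ^ k := by
    obtain ⟨k, hk⟩ := hD.card_orbit a
    refine ⟨k, ?_⟩
    rw [← hk, ← Nat.card_eq_finsetCard]
    refine Nat.card_congr (Equiv.subtypeEquivRight fun b => ?_)
    rw [hOm]
    exact ⟨fun ⟨d, hd, h⟩ => ⟨⟨d, hd⟩, h⟩, fun ⟨d, h⟩ => ⟨d.1, d.2, h⟩⟩
  have hyO : y • O = O := by
    rcases hG.three hOS (hsub _ hOS) (hsub _ (hsub _ hOS)) (hOD x hx) (hinv O hOD x hx)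
      (hinv _ (hinv O hOD) x hx) hk (by simpa using hk) (by simpa using hk) with h | h | h
    · exact h.symm
    · exact smul_eq_of_sq hy h.symm
    · exact (MulAction.injective y h).symm
  by_cases hOe : O = S
  swap
  · exact ih O.card (hn ▸ card_lt_card (hOS.ssubset_of_ne hOe)) O D x rfl hD hx hN hOD hyO
      (hG.mono hOS) a haO
  rw [hOe] at hOm hk
  rcases k with _ | k
  · obtain ⟨b, rfl⟩ := card_eq_one.1 hk
    rw [mem_singleton.1 ha]
    simpa using hyS
  obtain ⟨B, hBS, haB, hBc, hB⟩ := exists_half hD hOm (by rw [hk, pow_succ]; omega)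
  have hBk : B.card = 2 ^ k := by rw [hk, pow_succ] at hBc; omega
  have hCk : (S \ B).card = 2 ^ k := by rw [card_sdiff_of_subset hBS, hk, hBk, pow_succ]; omega
  have hcompl : ∀ (g : Perm α) (C : Finset α), g • S = S → g • (S \ C) = S \ g • C :=
    fun g C h => by rw [smul_finset_sdiff, h]
  have hyB' : ∀ d ∈ D, d • y • B = y • B ∨ d • y • B = S \ y • B := fun d hd => by
    have : d • y • B = y • (y⁻¹ * d * y) • B := by simp [← mul_smul, ← mul_assoc]
    rw [this]
    rcases hB _ (hconj d hd) with h | h <;> rw [h]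
    · exact Or.inl rfl
    · exact Or.inr (hcompl y B hyS)
  have hsq : ∀ C ⊆ S, (∀ d ∈ D, d • C = C ∨ d • C = S \ C) → (x * x) • C = C := fun C hC h => by
    rcases h x hx with h | h
    · rw [mul_smul, h, h]
    · rw [mul_smul, h, hcompl x C (hS x hx), h, Finset.sdiff_sdiff_eq_self hC]
  have hyB : (y • B = B ∨ y • B = S \ B) ∧ ∃ x' ∈ D, x' • B = B ∧ Good x' B := by
    rcases hG.cases subset_rfl (hS x hx) hk with h | ⟨-, b, hb, hxb⟩
    · have hp : ∀ b ∈ S, period (x * x) b = 2 ^ k := fun b hb =>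
        period_sq (mem_filter.1 (h.subset hb)).2
      have hc : ∀ C ⊆ S, (x * x) • C = C → C.card = 2 ^ k → ∀ b ∈ C, C = cyc (x * x) b :=
        fun C hC h1 h2 b hb => (eq_of_subset_of_card_le (cyc_subset h1 hb)
          (by rw [card_cyc, hp b (hC hb), h2])).symm
      have hB2 := hsq B hBS hB
      refine ⟨?_, x * x, D.mul_mem hx hx, hB2, two_of_mem hD (D.mul_mem hx hx), ?_, fun j => ?_⟩
      · have hya : y a ∈ y • B := smul_mem_smul_finset haB
        have h1 := hc _ (hsub B hBS) (hsq _ (hsub B hBS) hyB') (by simpa using hBk) _ hya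
        by_cases h2 : y a ∈ B
        · exact Or.inl (h1.trans (hc B hBS hB2 hBk _ h2).symm)
        · refine Or.inr (h1.trans (hc _ sdiff_subset ?_ hCk _
            (mem_sdiff.2 ⟨hsub B hBS hya, h2⟩)).symm)
          rw [hcompl _ B (hS _ (D.mul_mem hx hx)), hB2]
      · rcases (B.filter fun a => period (x * x) a = 1).eq_empty_or_nonempty with h1 | ⟨b, h1⟩
        · simp [h1]
        · rw [mem_filter, hp b (hBS h1.1)] at h1
          exact (card_le_card (filter_subset _ _)).trans (by omega)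
      · rcases (B.filter fun a => period (x * x) a = 2 ^ (j + 1)).eq_empty_or_nonempty with
          h1 | ⟨b, h1⟩
        · simp [h1]
        · rw [mem_filter, hp b (hBS h1.1)] at h1
          exact (card_le_card (filter_subset _ _)).trans (by omega)
    · have hfx : ∀ C ⊆ S, (∀ d ∈ D, d • C = C ∨ d • C = S \ C) → x • C = C := fun C hC h => by
        refine (h x hx).resolve_right fun h1 => ?_
        have h2 : b ∈ x • C ↔ b ∈ C := by
          conv_lhs => rw [← hxb]
          exact smul_mem_smul_finset_iff x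
        rw [h1, mem_sdiff] at h2
        tauto
      have hB1 := hfx B hBS hB
      refine ⟨?_, x, hx, hB1, hG.mono hBS⟩
      rcases hG.three hBS sdiff_subset (hsub B hBS) hB1 (by rw [hcompl x B (hS x hx), hB1])
        (hfx _ (hsub B hBS) hyB') hBk hCk (by simpa using hBk) with h | h | h
      · exact absurd haB (mem_sdiff.1 (h ▸ haB)).2
      · exact Or.inl h.symm
      · exact Or.inr h.symm
  obtain ⟨h1, x', hx', hx'B, hG'⟩ := hyB
  have hyB : y • B = B := by
    refine smul_eq_of_sq hy ?_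
    rcases h1 with h | h
    · rw [h, h]
    · rw [h, hcompl y B hyS, h, Finset.sdiff_sdiff_eq_self hBS]
  refine ih B.card (by have := card_pos.2 ⟨a, haB⟩; omega) B (D ⊓ stabilizer (Perm α) B) x' rfl
    (hD.to_le inf_le_left) ⟨hx', hx'B⟩ ?_ (fun d hd => hd.2) hyB hG' a haB
  exact Subgroup.inf_normalizer_le_normalizer_inf
    ⟨hN, Subgroup.le_normalizer (show y ∈ stabilizer (Perm α) B from hyB)⟩

theorem pgroup_normalizer {D : Subgroup (Perm α)} (hD : IsPGroup 2 D) {x : Perm α} (hx : x ∈ D)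
    (hG : Good x univ) : IsPGroup 2 (Subgroup.normalizer (D : Set (Perm α))) := by
  rintro ⟨g, hg⟩
  obtain ⟨k, m, hm, hkm⟩ := Nat.exists_eq_two_pow_mul_odd (orderOf_pos g).ne'
  refine ⟨k, Subtype.ext (Equiv.ext fun a => ?_)⟩
  refine fix_of_good (y := g ^ 2 ^ k) ?_ _ univ D x rfl hD hx ((Subgroup.normalizer _).pow_mem hg _)
    (fun d _ => smul_finset_univ) smul_finset_univ hG a (mem_univ a)
  rw [orderOf_pow_of_dvd (by positivity) (hkm ▸ dvd_mul_right _ _), hkm,
    Nat.mul_div_cancel_left _ (by positivity)]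
  exact hm

theorem sylow_unique_of_good {x : Perm α} (hG : Good x univ) (n : ℕ) :
    ∀ D : Subgroup (Perm α), D.index = n → x ∈ D → ∀ P Q : Sylow 2 (Perm α),
      D ≤ P → D ≤ Q → P = Q := by
  induction n using Nat.strong_induction_on with
  | _ n ih =>
  intro D hn hx P Q hP hQ
  have hD : IsPGroup 2 D := P.2.to_le hP
  obtain ⟨R, hR⟩ := (pgroup_normalizer hD hx hG).exists_le_sylow
  have key : ∀ P : Sylow 2 (Perm α), D ≤ P → P = R := fun P hP => by
    rcases hP.eq_or_lt with h | h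
    · exact Sylow.ext (P.3 R.2 (h ▸ Subgroup.le_normalizer.trans hR)).symm
    · have hN : D < (P : Subgroup (Perm α)) ⊓ Subgroup.normalizer (D : Set (Perm α)) := by
        have := P.2.isNilpotent
        have h1 : D.subgroupOf P < ⊤ :=
          lt_top_iff_ne_top.2 fun h1 => h.not_ge (Subgroup.subgroupOf_eq_top.1 h1)
        obtain ⟨g, hg1, hg2⟩ := SetLike.exists_of_lt (normalizerCondition_of_isNilpotent _ h1)
        rw [← Subgroup.subgroupOf_normalizer_eq hP] at hg1
        exact lt_of_le_of_ne (le_inf hP Subgroup.le_normalizer) fun h =>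
          hg2 (show g.1 ∈ D from h ▸ ⟨g.2, hg1⟩)
      exact ih _ (hn ▸ Subgroup.index_strictAnti hN) _ rfl (hN.le hx) P R inf_le_left
        (inf_le_right.trans hR)
  rw [key P hP, key Q hQ]

theorem period_eq_card {x : Perm α} {a : α} (ha : x a ≠ a) :
    period x a = (x.cycleOf a).support.card := by
  have hc := x.isCycle_cycleOf ha
  have h : ∀ n : ℕ, x ^ n • a = a ↔ (x.cycleOf a) ^ n = 1 := fun n => by
    rw [hc.pow_eq_one_iff' (x := a) (by rwa [Perm.cycleOf_apply_self]),
      Perm.cycleOf_pow_apply_self, Perm.smul_def]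
  rw [← hc.orderOf]
  exact Nat.dvd_antisymm (pow_smul_eq_iff_period_dvd.1 ((h _).2 (pow_orderOf_eq_one _)))
    (orderOf_dvd_of_pow_eq_one ((h _).1 (pow_period_smul x a)))

theorem card_fix (x : Perm α) :
    (univ.filter fun a : α => period x a = 1).card + x.support.card = Fintype.card α := by
  rw [← card_add_card_compl x.support, add_comm]
  congr 2
  ext a
  simp [period_eq_one_iff]

theorem good_of_nodup {x : Perm α} (hx : ∃ k, orderOf x = 2 ^ k)
    (h1 : Fintype.card α ≤ x.support.card + 2) (h2 : x.cycleType.Nodup) : Good x univ := by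
  refine ⟨fun a => ?_, by have := card_fix x; omega, fun k => ?_⟩
  · obtain ⟨k, hk⟩ := hx
    obtain ⟨j, -, hj⟩ := (Nat.dvd_prime_pow Nat.prime_two).1 (hk ▸ period_dvd_orderOf x a)
    exact ⟨j, hj⟩
  · rcases (univ.filter fun a : α => period x a = 2 ^ (k + 1)).eq_empty_or_nonempty with h | ⟨a, ha⟩
    · rw [h]; simp
    have hne : ∀ b ∈ univ.filter fun a : α => period x a = 2 ^ (k + 1), x b ≠ b := fun b hb h => by
      have := (mem_filter.1 hb).2
      rw [period_eq_one_iff.2 h, pow_succ] at this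
      omega
    rw [Perm.cycleType_def, Multiset.nodup_map_iff_inj_on (Finset.nodup _)] at h2
    refine (card_le_card fun b hb => ?_).trans
      ((period_eq_card (hne a ha)).symm.trans (mem_filter.1 ha).2).le
    rw [h2 (x.cycleOf a) (Perm.cycleOf_mem_cycleFactorsFinset_iff.2 (Perm.mem_support.2 (hne a ha)))
      (x.cycleOf b) (Perm.cycleOf_mem_cycleFactorsFinset_iff.2 (Perm.mem_support.2 (hne b hb)))
      (by simp only [Function.comp]
          rw [← period_eq_card (hne a ha), ← period_eq_card (hne b hb), (mem_filter.1 ha).2,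
            (mem_filter.1 hb).2])]
    exact (Perm.mem_support_cycleOf_iff' (hne b hb)).2 Perm.SameCycle.rfl

theorem swap_mem_of_unique {x : Perm α} (hx : ∃ k, orderOf x = 2 ^ k) {P : Sylow 2 (Perm α)}
    (hP : ∀ Q : Sylow 2 (Perm α), x ∈ Q → Q = P) {a b : α} (hp : period x a = period x b)
    (hab : ¬ x.SameCycle a b) : swap a b ∈ P := by
  set T : Set (Perm α) := Set.range fun i : ℤ => swap ((x ^ i) a) ((x ^ i) b) with hT
  have hne : ∀ i j : ℤ, (x ^ i) a ≠ (x ^ j) b := fun i j h =>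
    hab ⟨-j + i, by rw [zpow_add, Perm.mul_apply, h]; simp⟩
  have hiff : ∀ (c : α) (i j : ℤ), (x ^ i) c = (x ^ j) c ↔ (period x c : ℤ) ∣ -j + i := fun c i j => by
    rw [← zpow_smul_eq_iff_period_dvd, zpow_add, Perm.smul_def, Perm.mul_apply, zpow_neg,
      Perm.inv_eq_iff_eq]
  have hcomm : ∀ s ∈ T, ∀ t ∈ T, s * t = t * s := by
    rintro _ ⟨i, rfl⟩ _ ⟨j, rfl⟩
    by_cases h : (x ^ i) a = (x ^ j) a
    · have h' : (x ^ i) b = (x ^ j) b := by rw [hiff] at h ⊢; rwa [← hp]
      simp only [h, h']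
    · have h' : (x ^ i) b ≠ (x ^ j) b := fun h' => h (by rw [hiff] at h' ⊢; rwa [hp])
      refine (Perm.disjoint_swap_swap ?_).commute
      simp [hne, h, h', (hne j i).symm]
  have hE : IsPGroup 2 (Subgroup.closure T) := by
    rintro ⟨g, hg⟩
    refine ⟨1, Subtype.ext ?_⟩
    change g ^ 2 ^ 1 = 1
    rw [pow_one]
    induction hg using Subgroup.closure_induction with
    | mem s hs => obtain ⟨i, rfl⟩ := hs; rw [sq, swap_mul_self]
    | one => simp
    | mul s t hs ht h1 h2 =>
      have : Commute s t := by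
        have h3 := Subgroup.closure_le_centralizer_centralizer T ht
        have h4 : Subgroup.closure T ≤ Subgroup.centralizer T :=
          (Subgroup.closure_le _).2 (fun u hu v hv => hcomm v hv u hu)
        exact h3 s (h4 hs)
      rw [this.mul_pow, h1, h2, one_mul]
    | inv s _ h => rw [inv_pow, h, inv_one]
  have hZ : IsPGroup 2 (Subgroup.zpowers x) := by
    obtain ⟨k, hk⟩ := hx
    exact IsPGroup.of_card (n := k) (by rw [Nat.card_zpowers, hk])
  have hN : Subgroup.zpowers x ≤ Subgroup.normalizer (Subgroup.closure T : Set (Perm α)) := by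
    rw [Subgroup.zpowers_le]
    refine Subgroup.mem_normalizer_fintype fun g hg => ?_
    have : (Subgroup.closure T).map (MulAut.conj x).toMonoidHom ≤ Subgroup.closure T := by
      rw [MonoidHom.map_closure]
      refine Subgroup.closure_mono ?_
      rintro _ ⟨_, ⟨i, rfl⟩, rfl⟩
      refine ⟨1 + i, ?_⟩
      simp only [zpow_one_add, Perm.mul_apply, MulEquiv.coe_toMonoidHom, MulAut.conj_apply]
      exact swap_apply_apply x _ _
    exact this ⟨g, hg, rfl⟩
  obtain ⟨Q, hQ⟩ := (hZ.to_sup_of_normal_right' hE hN).exists_le_sylow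
  rw [← hP Q (hQ (Subgroup.mem_sup_left (Subgroup.mem_zpowers x)))]
  exact hQ (Subgroup.mem_sup_right (Subgroup.subset_closure ⟨0, by simp⟩))

theorem false_of_swaps {P : Sylow 2 (Perm α)} {a b c : α} (hab : a ≠ b) (hac : a ≠ c) (hbc : b ≠ c)
    (h1 : swap a b ∈ P) (h2 : swap a c ∈ P) : False := by
  obtain ⟨k, hk⟩ := P.2 ⟨_, P.1.mul_mem h1 h2⟩
  have h3 := (Perm.isThreeCycle_swap_mul_swap_same hab hac hbc).orderOf
  have h4 : 3 ∣ 2 ^ k := h3 ▸ orderOf_dvd_of_pow_eq_one (congrArg Subtype.val hk)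
  exact absurd (Nat.prime_three.dvd_of_dvd_pow h4) (by norm_num)

theorem unique_sylow_iff (x : Perm α) (hx : ∃ k : ℕ, orderOf x = 2 ^ k) :
    (∃! P : Sylow 2 (Perm α), x ∈ P) ↔
      (Fintype.card α ≤ x.support.card + 2 ∧ x.cycleType.Nodup) := by
  constructor
  · rintro ⟨P, -, hP⟩
    constructor
    · by_contra hc
      obtain ⟨a, ha, b, hb, c, hc', hab, hac, hbc⟩ :=
        two_lt_card.1 (show 2 < (univ.filter fun a : α => period x a = 1).card by
          have := card_fix x; omega)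
      simp only [mem_filter, mem_univ, true_and] at ha hb hc'
      have hs : ∀ b, a ≠ b → ¬ x.SameCycle a b := fun b h h1 =>
        h (h1.eq_of_left (period_eq_one_iff.1 ha))
      exact false_of_swaps hab hac hbc (swap_mem_of_unique hx hP (ha.trans hb.symm) (hs b hab))
        (swap_mem_of_unique hx hP (ha.trans hc'.symm) (hs c hac))
    · rw [Perm.cycleType_def, Multiset.nodup_map_iff_inj_on (Finset.nodup _)]
      intro c hc d hd hcd
      by_contra hne
      obtain ⟨a, ha, -⟩ := (Perm.mem_cycleFactorsFinset_iff.1 hc).1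
      obtain ⟨b, hb, -⟩ := (Perm.mem_cycleFactorsFinset_iff.1 hd).1
      have ha' := Perm.mem_support.2 ha
      have hb' := Perm.mem_support.2 hb
      have hxa := Perm.mem_support.1 (Perm.mem_cycleFactorsFinset_support_le hc ha')
      have hxb := Perm.mem_support.1 (Perm.mem_cycleFactorsFinset_support_le hd hb')
      have e1 := Perm.cycle_is_cycleOf ha' hc
      have e2 := Perm.cycle_is_cycleOf hb' hd
      have hp : period x a = period x b := by
        rw [period_eq_card hxa, period_eq_card hxb, ← e1, ← e2]; exact hcd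
      have hs : ¬ x.SameCycle a b := fun h => hne (by rw [e1, e2, h.cycleOf_eq])
      have hs' : ¬ x.SameCycle a (x b) := by rwa [Perm.sameCycle_apply_right]
      exact false_of_swaps (fun h : a = b => hs (h ▸ Perm.SameCycle.rfl))
        (fun h : a = x b => hs' (h ▸ Perm.SameCycle.rfl)) hxb.symm (swap_mem_of_unique hx hP hp hs)
        (swap_mem_of_unique hx hP (hp.trans (by simpa using (period_zpow_apply x b 1).symm)) hs')
  · rintro ⟨h1, h2⟩
    have hZ : IsPGroup 2 (Subgroup.zpowers x) := by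
      obtain ⟨k, hk⟩ := hx
      exact IsPGroup.of_card (n := k) (by rw [Nat.card_zpowers, hk])
    obtain ⟨P, hP⟩ := hZ.exists_le_sylow
    exact ⟨P, hP (Subgroup.mem_zpowers x), fun Q hQ => sylow_unique_of_good
      (good_of_nodup hx h1 h2) _ _ rfl (Subgroup.mem_zpowers x) Q P (Subgroup.zpowers_le.2 hQ) hP⟩

end CF.Xs
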