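import Cfsg.Agent.Classical.L2
import Cfsg.Agent.Classical.KleinCases
import Cfsg.Agent.Fgs2.AutP
import Cfsg.Agent.Fgs1.EqConj
import Cfsg.Agent.Transfer.Frat

/-! Sylow subgroups that are extraspecial of order `p ^ 3` and exponent `p`: bounds on `p`. -/

namespace CF.Xs
open MulAction Subgroup Matrix OnePoint CF.Classical
open scoped MatrixGroups commutatorElement

section klein
variable {H X : Type*} [Group H] [MulAction H X] [IsKlein H X] [Finite H]

theorem klein_three (hu : ∀ x : X, unip H x = ⊥) (x : Fin 3 → X) (hx : Function.Injective x)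
    (hg : ∀ i, ∃ g : H, g • x i = x i ∧ g * g ≠ 1) :
    (Nat.card H = 12 ∧ ∀ g : H, orderOf g ∣ 2 ∨ orderOf g ∣ 3) ∨
    (Nat.card H = 24 ∧ ∀ g : H, orderOf g ∣ 3 ∨ orderOf g ∣ 4) ∨
    (Nat.card H = 60 ∧ ∀ g : H, orderOf g ∣ 2 ∨ orderOf g ∣ 3 ∨ orderOf g ∣ 5) := by
  have key : ∀ a b : X, ¬ ∀ i, x i = a ∨ x i = b := fun a b h => by
    have h01 : x 0 ≠ x 1 := hx.ne (by decide)
    have h02 : x 0 ≠ x 2 := hx.ne (by decide)
    have h12 : x 1 ≠ x 2 := hx.ne (by decide)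
    rcases h 0 with h0 | h0 <;> rcases h 1 with h1 | h1 <;> rcases h 2 with h2 | h2 <;>
      simp_all
  rcases klein_semisimple_cases hu with ⟨a, ha⟩ | ⟨a, ha⟩ | h
  · exfalso
    have hc := isCyclic_stabilizer (hu a)
    obtain ⟨c, hc⟩ := hc.exists_generator
    have hc1 : c.1 ≠ 1 := fun h => by
      obtain ⟨g, -, hg⟩ := hg 0
      obtain ⟨n, hn⟩ := hc ⟨g, ha g⟩
      have : g = 1 := by simpa [h] using (congrArg Subtype.val hn).symm
      exact hg (by simp [this])
    obtain ⟨b, hb, hcb, -⟩ := exists_second_fixed hc1 (ha c) (unip_eq_bot_iff.1 (hu a) _)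
    refine key a b fun i => ?_
    obtain ⟨g, hgx, hg⟩ := hg i
    obtain ⟨n, hn⟩ := hc ⟨g, ha g⟩
    have hgb : g ∈ stabilizer H b := by
      rw [show g = c.1 ^ n from (congrArg Subtype.val hn).symm]
      exact zpow_mem (show c.1 ∈ stabilizer H b from hcb) n
    exact eq_or_eq_of_fixed (fun h => hg (by simp [h])) hb.symm (ha g) hgb hgx
  · exfalso
    obtain ⟨b, hb, h, -⟩ := exists_of_ncard_orbit_eq_two ha
    refine key a b fun i => ?_
    obtain ⟨g, hgx, hg⟩ := hg i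
    rcases h g with h | h
    · exact eq_or_eq_of_fixed (fun h => hg (by simp [h])) hb.symm h.1 h.2 hgx
    · exact absurd (mul_self_eq_one_of_swap hb.symm h.1 h.2) hg
  · exact h

end klein

section points
variable {F : Type*} [Field F]

open scoped _root_.Classical in
/-- The point of the projective line given by a vector. -/
noncomputable def ptOf (v : Fin 2 → F) : OnePoint F :=
  if h : v = 0 then ∞ else (equivProjectivization F).symm (Projectivization.mk F v h)

theorem ptOf_eq_iff {v w : Fin 2 → F} (hv : v ≠ 0) (hw : w ≠ 0) :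
    ptOf v = ptOf w ↔ ∃ a : F, a • w = v := by
  rw [ptOf, ptOf, dif_neg hv, dif_neg hw, Equiv.apply_eq_iff_eq, Projectivization.mk_eq_mk_iff']

theorem exists_ptOf (x : OnePoint F) : ∃ v, v ≠ 0 ∧ ptOf v = x := by
  classical
  refine ⟨_, (equivProjectivization F x).rep_nonzero, ?_⟩
  rw [ptOf, dif_neg (Projectivization.rep_nonzero _), Projectivization.mk_rep,
    Equiv.symm_apply_eq]

theorem mk_smul_ptOf (g : GL (Fin 2) F) {v : Fin 2 → F} (hv : v ≠ 0) :
    ProjGenLinGroup.mk g • ptOf v = ptOf ((g : Matrix (Fin 2) (Fin 2) F) *ᵥ v) := by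
  classical
  have h : (g : Matrix (Fin 2) (Fin 2) F) *ᵥ v ≠ 0 := (smul_ne_zero_iff_ne g).2 hv
  have h1 : GeneralLinearGroup.map (n := Fin 2) (algebraMap F F) g = g := by ext; simp
  rw [mk_smul_def, h1, ptOf, ptOf, dif_neg hv, dif_neg h, Equiv.eq_symm_apply,
    equivProjectivization_smul, Equiv.apply_symm_apply]
  rfl

theorem scalar_of_mk_eq_one {g : GL (Fin 2) F} (h : ProjGenLinGroup.mk g = 1) (v : Fin 2 → F) :
    (g : Matrix (Fin 2) (Fin 2) F) *ᵥ v = g 0 0 • v := by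
  rw [mk_eq_pgl, pgl_eq_one_iff] at h
  ext i
  fin_cases i <;> simp [mulVec, dotProduct, h.1, h.2.1, ← h.2.2]

end points

variable {p : ℕ} [hp : Fact p.Prime]

theorem exists_model {E : Type*} [Group E] [Finite E] (hE : Cfsg.IsExtraspecial p E)
    (hcard : Nat.card E = p ^ 3) (hexp : ∀ x : E, x ^ p = 1) :
    ∃ (π : MulAut E →* PGL(2, ZMod p)) (pt : E → OnePoint (ZMod p)),
      (∀ x, π (MulAut.conj x) = 1) ∧ (∀ y, ∃ u ∉ center E, pt u = y) ∧
      (∀ u ∉ center E, ∀ w ∉ center E, pt w = pt u → ∃ a : ℕ, (u ^ a)⁻¹ * w ∈ center E) ∧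
      ∀ (α : MulAut E), ∀ u ∉ center E, ∀ t s : ℕ, (∀ z ∈ center E, α z = z ^ t) →
        (u ^ s)⁻¹ * α u ∈ center E → (t : ZMod p) * s = 1 →
        π α • pt u = pt u ∧ ∀ m, π α ^ m = 1 → (t : ZMod p) ^ (3 * m) = 1 := by
  have hc : commutator E = center E := hE.1.2.2
  have hcm : ∀ a b : E, ⁅a, b⁆ ∈ center E := fun a b =>
    hc ▸ commutator_mem_commutator (mem_top a) (mem_top b)
  have : IsMulCommutative (E ⧸ center E) :=
    (Subgroup.Normal.quotient_commutative_iff_commutator_le).2 hc.le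
  obtain ⟨e⟩ := CF.Fgs2.nonempty_equiv_pi_zmod (V := E ⧸ center E) (p := p) (r := 2)
    (by rintro ⟨x⟩; exact (congrArg (QuotientGroup.mk' (center E)) (hexp x) :)) (by
      have h := card_eq_card_quotient_mul_card_subgroup (center E)
      rw [hcard, hE.2, pow_succ] at h
      exact (Nat.eq_of_mul_eq_mul_right hp.out.pos h).symm)
  set c : E → Fin 2 → ZMod p := fun u => (e u).toAdd with hcdef
  let ρ : MulAut E →* GL (Fin 2) (ZMod p) := (((MulAut.congr e).trans
    (CF.Fgs2.mulAutEquivLinear p _)).trans (Matrix.GeneralLinearGroup.toLin.trans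
      (LinearMap.GeneralLinearGroup.generalLinearEquiv _ _)).symm).toMonoidHom.comp
        (CF.Fgs2.quotAut (center E))
  have hρ : ∀ α u, (ρ α : Matrix (Fin 2) (Fin 2) (ZMod p)) *ᵥ c u = c (α u) := fun α u => by
    have : ∀ (L : (Fin 2 → ZMod p) ≃ₗ[ZMod p] (Fin 2 → ZMod p)) v,
        (((Matrix.GeneralLinearGroup.toLin.trans
          (LinearMap.GeneralLinearGroup.generalLinearEquiv _ _)).symm L : GL (Fin 2) (ZMod p)) :
            Matrix (Fin 2) (Fin 2) (ZMod p)) *ᵥ v = L v := fun L v => by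
      obtain ⟨g, rfl⟩ := (Matrix.GeneralLinearGroup.toLin.trans
          (LinearMap.GeneralLinearGroup.generalLinearEquiv (ZMod p) (Fin 2 → ZMod p))).surjective L
      rw [MulEquiv.symm_apply_apply]
      rfl
    refine (this _ _).trans ?_
    change (e (CF.Fgs2.quotAut (center E) α (e.symm (e u)))).toAdd = _
    rw [MulEquiv.symm_apply_apply]
    rfl
  have hce : ∀ u w, c u = c w ↔ u⁻¹ * w ∈ center E := fun u w => by
    rw [← QuotientGroup.eq, ← e.injective.eq_iff]; rfl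
  have hc0 : ∀ u ∉ center E, c u ≠ 0 := fun u hu h => hu (by
    have : c 1 = c u := by rw [h]; simp [hcdef]
    simpa using (hce 1 u).1 this)
  have hcp : ∀ (u : E) (a : ℕ), c (u ^ a) = (a : ZMod p) • c u := fun u a => by
    simp [hcdef, Nat.cast_smul_eq_nsmul]
  have hcs : ∀ v, ∃ u, c u = v := fun v => by
    obtain ⟨u, hu⟩ := QuotientGroup.mk_surjective (e.symm (Multiplicative.ofAdd v))
    exact ⟨u, by simp [hcdef, hu]⟩
  refine ⟨ProjGenLinGroup.mk.comp ρ, fun u => ptOf (c u), fun x => ?_, fun y => ?_,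
    fun u hu w hw h => ?_, fun α u hu t s hz hs hts => ⟨?_, fun m hm => ?_⟩⟩
  · have : CF.Fgs2.quotAut (center E) (MulAut.conj x) = 1 :=
      CF.Fgs2.mem_ker_quotAut.2 fun y => by
        simpa [commutatorElement_def, mul_assoc] using hcm y⁻¹ x
    simp only [ρ, MonoidHom.comp_apply, this, map_one]
  · obtain ⟨v, hv, rfl⟩ := exists_ptOf y
    obtain ⟨u, rfl⟩ := hcs v
    exact ⟨u, fun h => hv (((hce 1 u).2 (by simpa using h)).symm.trans (by simp [hcdef])), rfl⟩
  · obtain ⟨a, ha⟩ := (ptOf_eq_iff (hc0 w hw) (hc0 u hu)).1 h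
    exact ⟨a.val, (hce _ _).1 (by rw [hcp, ZMod.natCast_zmod_val, ha])⟩
  · have hs0 : (s : ZMod p) ≠ 0 := right_ne_zero_of_mul_eq_one hts
    change ProjGenLinGroup.mk (ρ α) • ptOf (c u) = ptOf (c u)
    rw [mk_smul_ptOf _ (hc0 u hu), hρ, ← (hce _ _).2 hs, hcp,
      ptOf_eq_iff (smul_ne_zero hs0 (hc0 u hu)) (hc0 u hu)]
    exact ⟨s, rfl⟩
  · rw [← map_pow] at hm
    have h1 := fun v => scalar_of_mk_eq_one (g := ρ (α ^ m)) hm v
    set ν := ρ (α ^ m) 0 0
    have h2 : ∀ k : ℕ, c ((α ^ k) u) = (s : ZMod p) ^ k • c u := fun k => by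
      induction k with
      | zero => simp
      | succ k ih =>
        rw [pow_succ', MulAut.mul_apply, ← hρ, ih, mulVec_smul, hρ, ← (hce _ _).2 hs, hcp,
          smul_smul, pow_succ]
    have h3 : ∀ k : ℕ, ∀ z ∈ center E, (α ^ k) z = z ^ t ^ k := fun k z hz' => by
      induction k with
      | zero => simp
      | succ k ih => rw [pow_succ', MulAut.mul_apply, ih, map_pow, hz z hz', ← pow_mul, pow_succ']
    have hν : ν = (s : ZMod p) ^ m := by
      have := h1 (c u)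
      rw [hρ, h2] at this
      exact (smul_left_injective _ (hc0 u hu) this).symm
    have h4 : ∀ w, ∃ z ∈ center E, (α ^ m) w = w ^ ν.val * z := fun w =>
      ⟨_, (hce (w ^ ν.val) ((α ^ m) w)).1 (by rw [hcp, ZMod.natCast_zmod_val, ← hρ, h1]), by group⟩
    obtain ⟨w, hw⟩ : ∃ w : E, ⁅u, w⁆ ≠ 1 := by
      by_contra h
      push Not at h
      exact hu (mem_center_iff.2 fun w => (commutatorElement_eq_one_iff_mul_comm.1 (h w)).symm)
    obtain ⟨z₁, hz₁, e₁⟩ := h4 u
    obtain ⟨z₂, hz₂, e₂⟩ := h4 w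
    have h5 : ∀ a b z₁ z₂ : E, z₁ ∈ center E → z₂ ∈ center E → ⁅a * z₁, b * z₂⁆ = ⁅a, b⁆ := by
      intro a b z₁ z₂ h₁ h₂
      rw [mem_center_iff] at h₁ h₂
      calc ⁅a * z₁, b * z₂⁆ = a * (z₁ * (b * z₂ * z₁⁻¹)) * a⁻¹ * z₂⁻¹ * b⁻¹ := by
            simp only [commutatorElement_def]; group
        _ = a * b * (z₂ * a⁻¹) * z₂⁻¹ * b⁻¹ := by rw [← mul_assoc z₁, ← h₁]; group
        _ = ⁅a, b⁆ := by rw [← h₂, commutatorElement_def]; group
    have h6 := h3 m _ (hcm u w)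
    rw [map_commutatorElement, e₁, e₂, h5 _ _ _ _ hz₁ hz₂,
      CF.Transfer.commutatorElement_pow_left' (mem_center_iff.1 (hcm _ _) _),
      CF.Transfer.commutatorElement_pow_right' (mem_center_iff.1 (hcm _ _) _), ← pow_mul,
      pow_eq_pow_iff_modEq, orderOf_eq_prime (hexp _) hw, ← ZMod.natCast_eq_natCast_iff] at h6
    push_cast at h6
    rw [ZMod.natCast_zmod_val, hν] at h6
    calc (t : ZMod p) ^ (3 * m) = (t ^ m * s ^ m) * (t ^ m * s ^ m) := by
          rw [mul_mul_mul_comm, h6]; ring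
      _ = 1 := by rw [← mul_pow, hts]; simp

section group
variable {G : Type*} [Group G]

/-- `g` acts on the pair `z, u` by the given matrix of exponents. -/
def Rg (z u g : G) (a b c d : ℤ) : Prop :=
  g * z * g⁻¹ = z ^ a * u ^ c ∧ g * u * g⁻¹ = z ^ b * u ^ d

variable {z u g h : G} {a b c d a' b' c' d' : ℤ}

theorem Rg.mul (hzu : Commute z u) (h1 : Rg z u g a b c d) (h2 : Rg z u h a' b' c' d') :
    Rg z u (g * h) (a * a' + b * c') (a * b' + b * d') (c * a' + d * c') (c * b' + d * d') := by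
  have key : ∀ m n : ℤ, g * (z ^ m * u ^ n) * g⁻¹ = z ^ (a * m + b * n) * u ^ (c * m + d * n) := by
    intro m n
    have : g * (z ^ m * u ^ n) * g⁻¹ = (g * z * g⁻¹) ^ m * (g * u * g⁻¹) ^ n := by
      rw [conj_zpow, conj_zpow]; group
    rw [this, h1.1, h1.2, (hzu.zpow_zpow _ _).mul_zpow, (hzu.zpow_zpow _ _).mul_zpow, ← _root_.zpow_mul,
      ← _root_.zpow_mul, ← _root_.zpow_mul, ← _root_.zpow_mul, _root_.zpow_add, _root_.zpow_add]
    exact ((hzu.zpow_zpow _ _).symm.mul_mul_mul_comm _ _)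
  exact ⟨by rw [← key, ← h2.1]; group, by rw [← key, ← h2.2]; group⟩

theorem zpow_congr_zmod {x : G} (hx : x ^ p = 1) {m n : ℤ} (h : (m : ZMod p) = n) :
    x ^ m = x ^ n :=
  zpow_eq_zpow_iff_modEq.2 (((ZMod.intCast_eq_intCast_iff _ _ _).1 h).of_dvd
    (Int.natCast_dvd_natCast.2 (orderOf_dvd_of_pow_eq_one hx)))

theorem Rg.congr (hz : z ^ p = 1) (hu : u ^ p = 1) (h : Rg z u g a b c d) (ha : (a : ZMod p) = a')
    (hb : (b : ZMod p) = b') (hc : (c : ZMod p) = c') (hd : (d : ZMod p) = d') :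
    Rg z u g a' b' c' d' :=
  ⟨by rw [h.1, zpow_congr_zmod hz ha, zpow_congr_zmod hu hc],
    by rw [h.2, zpow_congr_zmod hz hb, zpow_congr_zmod hu hd]⟩

theorem exists_diag (hzu : Commute z u) (hz : z ^ p = 1) (hu : u ^ p = 1)
    (h1 : ∀ c, ∃ g, Rg z u g 1 c 0 1) (h2 : ∀ c, ∃ g, Rg z u g 1 0 c 1) {t s : ℤ}
    (hts : (t : ZMod p) * s = 1) : ∃ g, Rg z u g t 0 0 s := by
  have key : ∀ t s : ℤ, (t : ZMod p) * s = 1 → ∃ g, Rg z u g 0 t (-s) 0 := fun t s hts => by
    obtain ⟨g, hg⟩ := h1 t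
    obtain ⟨h, hh⟩ := h2 (-s)
    refine ⟨_, ((hg.mul hzu hh).mul hzu hg).congr hz hu ?_ ?_ ?_ ?_⟩ <;> push_cast
    · linear_combination -hts
    · linear_combination -(t : ZMod p) * hts
    · ring
    · linear_combination -hts
  obtain ⟨g, hg⟩ := key t s hts
  obtain ⟨h, hh⟩ := key (-1) (-1) (by simp)
  exact ⟨_, (hg.mul hzu hh).congr hz hu (by simp) (by simp) (by simp) (by simp)⟩

theorem exists_norm [Finite G] (P : Sylow p G) (hzu : Commute z u) (hz : z ^ p = 1) (hu : u ^ p = 1)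
    (hP : ∀ x ∈ P, ∃ c, Rg z u x 1 c 0 1) {t s : ℤ} (hts : (t : ZMod p) * s = 1)
    (hg : Rg z u g t 0 0 s) : ∃ n ∈ normalizer (P : Set G), ∃ b, Rg z u n t b 0 s := by
  let K : Subgroup G :=
    { carrier := {h | ∃ c, Rg z u h 1 c 0 1}
      one_mem' := ⟨0, by simp [Rg]⟩
      mul_mem' := fun ⟨c, hc⟩ ⟨d, hd⟩ => ⟨d + c, by simpa using hc.mul hzu hd⟩
      inv_mem' := fun {h} ⟨c, hc⟩ => by
        simp only [Rg, zpow_one, zpow_zero, mul_one] at hc
        have h1 : h⁻¹ * z * h = z := by conv_lhs => rw [← hc.1]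
                                        group
        refine ⟨-c, by simpa using h1, ?_⟩
        have h2 : h⁻¹ * z ^ c * h = z ^ c := by
          conv_rhs => rw [← h1]
          simpa using (conj_zpow (i := c) (a := h⁻¹) (b := z)).symm
        rw [zpow_one, inv_inv, _root_.zpow_neg, eq_inv_mul_iff_mul_eq, ← h2]
        calc _ = h⁻¹ * (z ^ c * u) * h := by group
          _ = u := by rw [← hc.2]; group }
  have hg' : Rg z u g⁻¹ s 0 0 t := by
    simp only [Rg, zpow_zero, mul_one, one_mul] at hg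
    have h1 : g * z ^ s * g⁻¹ = z := by
      rw [← conj_zpow, hg.1, ← _root_.zpow_mul, zpow_congr_zmod hz (n := 1) (by simpa using hts), zpow_one]
    have h2 : g * u ^ t * g⁻¹ = u := by
      rw [← conj_zpow, hg.2, ← _root_.zpow_mul,
        zpow_congr_zmod hu (n := 1) (by simpa [mul_comm] using hts), zpow_one]
    refine ⟨?_, ?_⟩
    · conv_lhs => rw [← h1]
      group
    · conv_lhs => rw [← h2]
      group
  have h1 : (P : Subgroup G) ≤ K := hP
  have h2 : ((g • P : Sylow p G) : Subgroup G) ≤ K := by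
    rintro _ ⟨x, hx, rfl⟩
    obtain ⟨c, hc⟩ := hP x hx
    exact ⟨t * c * t, ((hg.mul hzu hc).mul hzu hg').congr hz hu (by simpa using hts) (by simp)
      (by simp) (by simpa [mul_comm] using hts)⟩
  obtain ⟨k, hk⟩ := exists_smul_eq K ((g • P).subtype h2) (P.subtype h1)
  simp_rw [Sylow.smul_subtype, Subgroup.smul_def, smul_smul] at hk
  obtain ⟨c, hc⟩ := k.2
  exact ⟨k * g, Sylow.smul_eq_iff_mem_normalizer.1 (Sylow.subtype_injective hk), c * s,
    by simpa using hc.mul hzu hg⟩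

theorem exists_H [Finite G] (P : Sylow p G) (hE : Cfsg.IsExtraspecial p P)
    (hcard : Nat.card P = p ^ 3) (hexp : ∀ x : P, x ^ p = 1) {z : P} (hz : zpowers z = center P) :
    ∃ (H : Subgroup PGL(2, ZMod p)) (pt : P → OnePoint (ZMod p)), ¬ p ∣ Nat.card H ∧
      (∀ y, ∃ u ∉ center P, pt u = y) ∧
      (∀ u ∉ center P, ∀ w ∉ center P, pt w = pt u → ∃ a : ℕ, (u ^ a)⁻¹ * w ∈ center P) ∧
      ∀ u ∉ center P, (∀ c, ∃ g : G, Rg z.1 u.1 g 1 0 c 1) →
        ∃ h : H, h • pt u = pt u ∧ ∀ m, h ^ m = 1 → p - 1 ∣ 3 * m := by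
  obtain ⟨π, pt, h1, h2, h3, h4⟩ := exists_model hE hcard hexp
  set φ := π.comp (P : Subgroup G).normalizerMonoidHom with hφ
  have hzc : z ∈ center P := hz ▸ mem_zpowers z
  refine ⟨φ.range, pt, fun h => P.not_dvd_index ?_, h2, h3, fun u hu hl => ?_⟩
  · rw [← index_ker] at h
    refine (h.trans (index_dvd_of_le (H := (P : Subgroup G).subgroupOf _) fun x hx => ?_)).trans
      (relIndex_dvd_index_of_le le_normalizer)
    exact (congrArg π (by ext; rfl)).trans (h1 ⟨x, hx⟩)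
  have hzu : Commute z.1 u.1 := congrArg Subtype.val (mem_center_iff.1 hzc u).symm
  have hzp : z.1 ^ p = 1 := congrArg Subtype.val (hexp z)
  have hup : u.1 ^ p = 1 := congrArg Subtype.val (hexp u)
  have hcm : ∀ a b : P, ⁅a, b⁆ ∈ center P := fun a b =>
    hE.1.2.2 ▸ commutator_mem_commutator (mem_top a) (mem_top b)
  have hna : ¬ IsMulCommutative (P : Subgroup G) := CF.Fgs1.not_isMulCommutative_of_extraspecial hE
  have hup' : ∀ c, ∃ g, Rg z.1 u.1 g 1 c 0 1 := fun c => by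
    obtain ⟨x, hx, e⟩ := (CF.Fgs1.EqConj.exists_transvection hcard hna).2 (z.1 ^ c)
      (zpow_mem (show z.1 ∈ (P : Subgroup G) ⊓ centralizer _ from ⟨z.2, fun y hy =>
        congrArg Subtype.val (mem_center_iff.1 hzc ⟨y, hy⟩)⟩) c) u u.2
      (fun h => hu (mem_center_iff.2 fun y => Subtype.ext (h y y.2)))
    refine ⟨x, ?_, by rw [e, zpow_one, (hzu.zpow_left c).eq]⟩
    rw [show x * z.1 = z.1 * x from congrArg Subtype.val (mem_center_iff.1 hzc ⟨x, hx⟩)]
    simp
  have hP : ∀ x ∈ P, ∃ c, Rg z.1 u.1 x 1 c 0 1 := fun x hx => by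
    obtain ⟨c, hc⟩ := (hz ▸ hcm ⟨x, hx⟩ u : ⁅(⟨x, hx⟩ : P), u⁆ ∈ zpowers z)
    refine ⟨c, ?_, ?_⟩
    · rw [show x * z.1 = z.1 * x from congrArg Subtype.val (mem_center_iff.1 hzc ⟨x, hx⟩)]
      simp
    · rw [show z.1 ^ c = x * u * x⁻¹ * u.1⁻¹ from congrArg Subtype.val hc]
      simp
  obtain ⟨τ, hτ⟩ := IsCyclic.exists_ofOrder_eq_natCard (α := (ZMod p)ˣ)
  obtain ⟨t, ht⟩ := ZMod.natCast_zmod_surjective (τ : ZMod p)
  obtain ⟨s, hs⟩ := ZMod.natCast_zmod_surjective ((τ⁻¹ : (ZMod p)ˣ) : ZMod p)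
  have hts : (t : ZMod p) * s = 1 := by rw [ht, hs, Units.mul_inv]
  obtain ⟨g, hg⟩ := exists_diag hzu hzp hup hup' hl (t := t) (s := s) (by exact_mod_cast hts)
  obtain ⟨n, hn, b, hb⟩ := exists_norm P hzu hzp hup hP (by exact_mod_cast hts) hg
  obtain ⟨h5, h6⟩ := h4 ((P : Subgroup G).normalizerMonoidHom ⟨n, hn⟩) u hu t s (fun w hw => by
      obtain ⟨c, rfl⟩ := (hz ▸ hw : w ∈ zpowers z)
      have : (P : Subgroup G).normalizerMonoidHom ⟨n, hn⟩ z = z ^ t :=
        Subtype.ext (hb.1.trans (by simp))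
      simp only [map_zpow, this, ← zpow_natCast, ← _root_.zpow_mul, mul_comm]) (by
      have : (P : Subgroup G).normalizerMonoidHom ⟨n, hn⟩ u =
          z ^ b * u ^ s := Subtype.ext (hb.2.trans (by simp))
      rw [this, ← mem_center_iff.1 (zpow_mem hzc b), inv_mul_cancel_left]
      exact zpow_mem hzc b) hts
  refine ⟨⟨_, ⟨n, hn⟩, rfl⟩, h5, fun m hm => ?_⟩
  have h7 := h6 m (congrArg Subtype.val hm)
  rw [ht, ← Units.val_pow_eq_pow_val, Units.val_eq_one,
    ← orderOf_dvd_iff_pow_eq_one, hτ, Nat.card_units, Nat.card_zmod] at h7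
  exact h7

end group

theorem unip_eq_bot_of_not_dvd {H : Subgroup PGL(2, ZMod p)} (hH : ¬ p ∣ Nat.card H)
    (x : OnePoint (AlgebraicClosure (ZMod p))) : unip H x = ⊥ :=
  unip_eq_bot_iff.2 fun g hg => by
    have h1 : g.1 ^ p = 1 := (isL2_PGL (ZMod p) (AlgebraicClosure (ZMod p))).pow_eq_one_of_mem_unip
      p (x := x) (Or.inr hg)
    exact hH ((orderOf_eq_prime (Subtype.ext h1 : g ^ p = 1) hg.ne_one).symm.dvd.trans
      (_root_.orderOf_dvd_natCard g))

theorem klein_bound {H : Subgroup PGL(2, ZMod p)} (hH : ¬ p ∣ Nat.card H) (h7 : 7 < p)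
    (x : Fin 3 → OnePoint (ZMod p)) (hx : Function.Injective x)
    (h : ∀ i, ∃ h : H, h • x i = x i ∧ ∀ m, h ^ m = 1 → p - 1 ∣ 3 * m) :
    p = 13 ∧ Nat.card H = 24 ∧ ∀ g : H, orderOf g ∣ 3 ∨ orderOf g ∣ 4 := by
  have h3 := klein_three (unip_eq_bot_of_not_dvd hH) (fun i => ratPt _ (x i))
    (ratPt_injective.comp hx) fun i => by
      obtain ⟨g, hg, hg'⟩ := h i
      refine ⟨g, smul_ratPt_eq_iff.2 hg, fun h1 => ?_⟩
      have := Nat.le_of_dvd (by norm_num) (hg' 2 (by rw [sq, h1]))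
      omega
  obtain ⟨g, -, hg⟩ := h 0
  have key : ∀ m, orderOf g ∣ m → m = 2 ∨ m = 3 ∨ m = 4 ∨ m = 5 → p = 13 ∧ m = 4 := by
    intro m hm hm'
    have h1 := hg m (orderOf_dvd_iff_pow_eq_one.1 hm)
    have h2 := Nat.le_of_dvd (by omega) h1
    have h3 := hp.out
    have h4 : p ≤ 16 := by omega
    rcases hm' with rfl | rfl | rfl | rfl <;> interval_cases p <;>
      first | omega | exact absurd h3 (by norm_num)
  rcases h3 with ⟨-, h1⟩ | ⟨h0, h1⟩ | ⟨-, h1⟩
  · rcases h1 g with h | h <;> have := key _ h (by simp) <;> omega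
  · rcases h1 g with h | h
    · have := key _ h (by simp); omega
    · exact ⟨(key _ h (by simp)).1, h0, h1⟩
  · rcases h1 g with h | h | h <;> have := key _ h (by simp) <;> omega

theorem exists_low {A : Type*} [Group A] [Finite A] (hc : Nat.card A = p ^ 2)
    (hexp : ∀ a : A, a ^ p = 1) {z u : A} (hu : u ≠ 1) (hz : z ∉ zpowers u) (c : ℤ) :
    ∃ φ : MulAut A, φ ^ p = 1 ∧ φ z = z * u ^ c ∧ φ u = u := by
  have := CF.Fgs1.EqConj.comm_of_card_dvd_sq hc.dvd
  let : CommGroup A := { (inferInstance : Group A) with mul_comm := mul_comm' }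
  have hq : Nat.card (A ⧸ zpowers u) = p := by
    have h := card_eq_card_quotient_mul_card_subgroup (zpowers u)
    rw [hc, Nat.card_zpowers, orderOf_eq_prime (hexp u) hu, sq] at h
    exact (Nat.eq_of_mul_eq_mul_right hp.out.pos h).symm
  have hz1 : (z : A ⧸ zpowers u) ≠ 1 := fun h => hz ((QuotientGroup.eq_one_iff z).1 h)
  have hg : ∀ x, x ∈ zpowers (z : A ⧸ zpowers u) := fun x => mem_zpowers_of_prime_card hq hz1
  have hd : orderOf (u ^ c) ∣ orderOf (z : A ⧸ zpowers u) := by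
    rw [orderOf_eq_card_of_forall_mem_zpowers hg, hq]
    exact orderOf_dvd_of_pow_eq_one (hexp _)
  set χ := (monoidHomOfForallMemZpowers hg hd).comp (QuotientGroup.mk' (zpowers u))
  have hχz : χ z = u ^ c := monoidHomOfForallMemZpowers_apply_gen hg hd
  have hχu : ∀ x ∈ zpowers u, χ x = 1 := fun x hx => by
    change monoidHomOfForallMemZpowers hg hd (x : A ⧸ zpowers u) = 1
    rw [(QuotientGroup.eq_one_iff x).2 hx, map_one]
  have hχ : ∀ x, χ (χ x) = 1 := fun x => hχu _ (by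
    obtain ⟨k, hk⟩ := hg x
    have : χ x = χ (z ^ k) := by
      change monoidHomOfForallMemZpowers hg hd (x : A ⧸ zpowers u) =
        monoidHomOfForallMemZpowers hg hd ((z ^ k : A) : A ⧸ zpowers u)
      rw [← hk]; rfl
    rw [this, map_zpow, hχz]
    exact zpow_mem (zpow_mem (mem_zpowers u) c) k)
  let φ : MulAut A :=
    { toFun := fun a => a * χ a
      invFun := fun a => a * (χ a)⁻¹
      left_inv := fun a => by simp [hχ]
      right_inv := fun a => by simp [hχ]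
      map_mul' := fun a b => by rw [map_mul, mul_mul_mul_comm] }
  have hφ : ∀ (n : ℕ) a, (φ ^ n) a = a * χ a ^ n := fun n a => by
    induction n with
    | zero => simp
    | succ n ih =>
      rw [pow_succ', MulAut.mul_apply, ih]
      change a * χ a ^ n * χ (a * χ a ^ n) = _
      rw [map_mul, map_pow, hχ, one_pow, mul_one, pow_succ, mul_assoc]
  refine ⟨φ, by ext a; rw [hφ, hexp, mul_one]; rfl, congrArg (z * ·) hχz, ?_⟩
  change u * χ u = u
  rw [hχu u (mem_zpowers u), mul_one]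

section final
variable {G : Type*} [Group G] [Finite G] (P : Sylow p G) (hE : Cfsg.IsExtraspecial p P)
  (hcard : Nat.card P = p ^ 3) (hexp : Monoid.exponent P = p)
include hE hcard hexp

omit hcard hexp in
theorem exists_gen_center : ∃ z : P, z ≠ 1 ∧ zpowers z = center P := by
  obtain ⟨z, hz⟩ := (Subgroup.isCyclic_iff_exists_zpowers_eq_top _).1 (isCyclic_of_prime_card hE.2)
  refine ⟨z, fun h => hp.out.ne_one ?_, hz⟩
  rw [← hE.2, ← hz, h, zpowers_one_eq_bot, card_bot]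

theorem bound_thirteen (A : Fin 3 → Subgroup G) (hA : Function.Injective A)
    (hAP : ∀ i, A i ≤ (P : Subgroup G)) (hAc : ∀ i, Nat.card (A i) = p ^ 2)
    (hSL : ∀ i, ∀ φ : MulAut (A i), orderOf φ = p →
      ∃ g : G, ∀ a : A i, (φ a : G) = g * (a : G) * g⁻¹) : p ≤ 13 := by
  by_contra hlt
  have hexp' : ∀ x : P, x ^ p = 1 := fun x =>
    (congrArg (x ^ ·) hexp).symm.trans (Monoid.pow_exponent_eq_one x)
  obtain ⟨z, hz1, hz⟩ := exists_gen_center P hE
  obtain ⟨H, pt, hH, -, h2, h3⟩ := exists_H P hE hcard hexp' hz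
  set B : Fin 3 → Subgroup P := fun i => (A i).subgroupOf P with hB
  have hBc : ∀ i, Nat.card (B i) = p ^ 2 := fun i =>
    (Nat.card_congr (subgroupOfEquivOfLe (hAP i)).toEquiv).trans (hAc i)
  have hZ : ∀ i, center P ≤ B i := fun i => by
    refine CF.Fgs1.center_le_of_index_prime (CF.Fgs1.not_isMulCommutative_of_extraspecial hE)
      (CF.Fgs1.EqConj.comm_of_card_dvd_sq (hBc i).dvd) ?_
    have h := (B i).card_mul_index
    rw [hBc, hcard, pow_succ p 2] at h
    rw [Nat.eq_of_mul_eq_mul_left (pow_pos hp.out.pos 2) h]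
    exact hp.out
  have hr : ∀ i, ((center P).relIndex (B i)).Prime := fun i => by
    have h := ((center P).subgroupOf (B i)).card_mul_index
    rw [hBc, Nat.card_congr (subgroupOfEquivOfLe (hZ i)).toEquiv, hE.2, sq] at h
    rw [relIndex, Nat.eq_of_mul_eq_mul_left hp.out.pos h]
    exact hp.out
  have hu : ∀ i, ∃ u ∈ B i, u ∉ center P := fun i =>
    have ⟨u, h1, h2, _⟩ := CF.Fgs1.exists_sup_zpowers_eq (hr i) (hZ i)
    ⟨u, h1, h2⟩
  choose u hu hu' using hu
  have := (klein_bound hH (by omega) (fun i => pt (u i)) (fun i j hij => ?_) fun i =>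
    h3 _ (hu' i) fun c => ?_).1
  · omega
  · obtain ⟨a, ha⟩ := h2 _ (hu' j) _ (hu' i) hij
    have h4 : u i ∈ B j := by simpa using (B j).mul_mem ((B j).pow_mem (hu j) a) (hZ j ha)
    rcases CF.Fgs1.eq_or_eq_of_relIndex_prime (hr i) (le_inf (hZ i) (hZ j)) inf_le_left with h | h
    · exact absurd (h ▸ ⟨hu i, h4⟩) (hu' i)
    · have h5 : A i ≤ A j := fun x hx => (inf_eq_left.1 h (show (⟨x, hAP i hx⟩ : P) ∈ B i from hx) :)
      exact hA (eq_of_le_of_card_ge h5 (by rw [hAc, hAc]))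
  · have hzA : z.1 ∈ A i := hZ i (hz ▸ mem_zpowers z)
    have hu1 : u i ≠ 1 := fun h => hu' i (h ▸ one_mem _)
    obtain ⟨φ, h4, h5, h6⟩ := exists_low (hAc i) (fun a => Subtype.ext
      (congrArg Subtype.val (hexp' ⟨a, hAP i a.2⟩) :)) (z := ⟨z, hzA⟩) (u := ⟨u i, hu i⟩)
      (fun h => hu1 (Subtype.ext (congrArg Subtype.val h :))) (fun ⟨k, hk⟩ => hu' i (by
        have h4 : z ∈ zpowers (u i) := ⟨k, Subtype.ext (congrArg Subtype.val hk :)⟩
        have h5 : zpowers z = zpowers (u i) := eq_of_le_of_card_ge (zpowers_le.2 h4) (by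
          rw [Nat.card_zpowers, Nat.card_zpowers, orderOf_eq_prime (hexp' _) hz1,
            orderOf_eq_prime (hexp' _) hu1])
        rw [← hz, h5]; exact mem_zpowers _)) c
    obtain ⟨g, hg⟩ : ∃ g : G, ∀ a : A i, (φ a : G) = g * (a : G) * g⁻¹ := by
      by_cases h : φ = 1
      · exact ⟨1, fun a => by simp [h]⟩
      · exact hSL i φ (orderOf_eq_prime h4 h)
    refine ⟨g, ?_, ?_⟩
    · rw [← hg ⟨z, hzA⟩, h5]; simp
    · rw [← hg ⟨u i, hu i⟩, h6]; simp

theorem bound_seven (hconj : ∀ x y : P, x ≠ 1 → y ≠ 1 → ∃ g : G, g * (x : G) * g⁻¹ = (y : G)) :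
    p ≤ 7 := by
  by_contra hlt
  have hexp' : ∀ x : P, x ^ p = 1 := fun x =>
    (congrArg (x ^ ·) hexp).symm.trans (Monoid.pow_exponent_eq_one x)
  obtain ⟨z, hz1, hz⟩ := exists_gen_center P hE
  obtain ⟨H, pt, hH, h1, -, h3⟩ := exists_H P hE hcard hexp' hz
  have hzc : z ∈ center P := hz ▸ mem_zpowers z
  have hPC : (P : Subgroup G) ≤ centralizer {z.1} := fun x hx =>
    mem_centralizer_singleton_iff.2 (congrArg Subtype.val (mem_center_iff.1 hzc ⟨x, hx⟩))
  have hall : ∀ y : OnePoint (ZMod p), ∃ h : H, h • y = y ∧ ∀ m, h ^ m = 1 → p - 1 ∣ 3 * m := by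
    intro y
    obtain ⟨u, hu, rfl⟩ := h1 y
    refine h3 u hu fun c => ?_
    have hu1 : u ≠ 1 := fun h => hu (h ▸ one_mem _)
    obtain ⟨g₀, hg₀⟩ := hconj u z hu1 hz1
    have hzu : z.1 * u.1 = u.1 * z.1 := congrArg Subtype.val (mem_center_iff.1 hzc u).symm
    have hw : g₀ * z * g₀⁻¹ ∈ centralizer {z.1} := by
      rw [mem_centralizer_singleton_iff]
      conv_lhs => rw [← hg₀]; enter [1]; rw [hg₀]
      conv_rhs => rw [← hg₀]; enter [2]; rw [hg₀]
      calc _ = g₀ * (z.1 * u.1) * g₀⁻¹ := by group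
        _ = _ := by rw [hzu]; group
    have hpg : IsPGroup p (zpowers (⟨_, hw⟩ : centralizer {z.1})) := by
      refine IsPGroup.of_card_dvd_pow (n := 1) ?_
      rw [Nat.card_zpowers, pow_one]
      refine orderOf_dvd_of_pow_eq_one (Subtype.ext ?_)
      change (g₀ * z * g₀⁻¹) ^ p = 1
      rw [conj_pow, show z.1 ^ p = 1 from congrArg Subtype.val (hexp' z)]; simp
    obtain ⟨Q, hQ⟩ := hpg.exists_le_sylow
    obtain ⟨k, hk⟩ := exists_smul_eq (centralizer {z.1}) Q (P.subtype hPC)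
    have hk1 : k.1 * (g₀ * z * g₀⁻¹) * k.1⁻¹ ∈ (P : Subgroup G) := by
      have : k * ⟨_, hw⟩ * k⁻¹ ∈ (k • Q : Sylow p _) := ⟨_, hQ (mem_zpowers _), rfl⟩
      rw [hk] at this
      exact this
    set g := k.1 * g₀ with hg
    have hgu : g * u * g⁻¹ = z := by
      rw [hg, _root_.mul_inv_rev, show k.1 * g₀ * u * (g₀⁻¹ * k.1⁻¹) = k.1 * (g₀ * u * g₀⁻¹) * k.1⁻¹ by
        group, hg₀, mem_centralizer_singleton_iff.1 k.2, mul_inv_cancel_right]
    have hgz : g * z * g⁻¹ ∈ (P : Subgroup G) := by convert hk1 using 1; rw [hg]; group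
    obtain ⟨x, hx, e⟩ := (CF.Fgs1.EqConj.exists_transvection hcard
      (CF.Fgs1.not_isMulCommutative_of_extraspecial hE)).2 (z.1 ^ c)
      (zpow_mem (show z.1 ∈ (P : Subgroup G) ⊓ centralizer _ from ⟨z.2, fun y hy =>
        congrArg Subtype.val (mem_center_iff.1 hzc ⟨y, hy⟩)⟩) c) _ hgz (fun h => hu (by
        have h4 : (⟨_, hgz⟩ : P) ∈ center P := mem_center_iff.2 fun y => Subtype.ext (h y y.2)
        obtain ⟨j, hj⟩ := (hz ▸ h4 : (⟨_, hgz⟩ : P) ∈ zpowers z)
        have h5 : z.1 ^ j = g * z * g⁻¹ := congrArg Subtype.val hj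
        have h6 : z ∈ zpowers u := ⟨j, Subtype.ext (by
          change u.1 ^ j = z
          rw [← hgu, conj_zpow] at h5
          conv_rhs at h5 => rw [hgu]
          simpa using h5)⟩
        have h7 : zpowers z = zpowers u := eq_of_le_of_card_ge (zpowers_le.2 h6) (by
          rw [Nat.card_zpowers, Nat.card_zpowers, orderOf_eq_prime (hexp' _) hz1,
            orderOf_eq_prime (hexp' _) hu1])
        rw [← hz, h7]; exact mem_zpowers _))
    have hxz : x * z * x⁻¹ = z := by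
      rw [mem_centralizer_singleton_iff.1 (hPC hx), mul_inv_cancel_right]
    refine ⟨g⁻¹ * x * g, ?_, ?_⟩
    · calc _ = g⁻¹ * (x * (g * z * g⁻¹) * x⁻¹) * g := by group
        _ = z * (g⁻¹ * (g * u * g⁻¹) ^ c * g) := by rw [e, hgu]; group
        _ = _ := by rw [conj_zpow]; group
    · calc _ = g⁻¹ * (x * (g * u * g⁻¹) * x⁻¹) * g := by group
        _ = _ := by rw [hgu, hxz, ← hgu]; group
  have h01 : (0 : ZMod p) ≠ 1 := zero_ne_one
  obtain ⟨rfl, h24, ho⟩ := klein_bound hH (by omega) ![∞, (0 : ZMod p), (1 : ZMod p)] (by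
    intro i j; fin_cases i <;> fin_cases j <;> simp [h01, h01.symm]) fun i => hall _
  have h6 := dvd_ncard_of_orbits (H := H) (Set.univ : Set (OnePoint (ZMod 13))) Set.finite_univ
    (fun _ _ _ => trivial) 6 fun x _ => by
      have hc := isCyclic_stabilizer (unip_eq_bot_of_not_dvd hH (ratPt _ x))
      have he : stabilizer H (ratPt (AlgebraicClosure (ZMod 13)) x) = stabilizer H x :=
        Subgroup.ext fun g => smul_ratPt_eq_iff
      rw [he] at hc
      obtain ⟨c, hc⟩ := hc.exists_ofOrder_eq_natCard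
      obtain ⟨g, hg, hg'⟩ := hall x
      have h4 := hg' _ (congrArg Subtype.val
        (pow_card_eq_one' (x := (⟨g, hg⟩ : stabilizer H x))))
      have h5 := ho c.1
      rw [Subgroup.orderOf_coe, hc] at h5
      have h6 := ncard_orbit_mul_card_stabilizer (H := H) x
      have h7 : Nat.card (stabilizer H x) = 4 := by
        rcases h5 with h5 | h5
        · have := Nat.le_of_dvd (by norm_num) h5
          have := Nat.card_pos (α := stabilizer H x)
          omega
        · have := Nat.le_of_dvd (by norm_num) h5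
          have := Nat.card_pos (α := stabilizer H x)
          omega
      rw [h7, h24] at h6
      omega
  rw [Set.ncard_univ, show Nat.card (OnePoint (ZMod 13)) = 14 from by
    change Nat.card (Option (ZMod 13)) = 14; simp] at h6
  omega

end final

end CF.Xs
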